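import Cfsg.Agent.Lib.BlockReg.Foundation
import Mathlib.LinearAlgebra.Trace
import Mathlib.LinearAlgebra.Matrix.ToLin
import Mathlib.GroupTheory.Sylow

/-!
# Regular-class functions of a block, defect classes

On `p`-regular elements every class function with local-integer values is a local-integer
combination of irreducible characters; block orthogonality projects such identities onto blocks.
-/

set_option autoImplicit false

namespace CfsgLib.BlockReg

open Cfsg
open scoped ComplexConjugate

universe u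

variable {G : Type u} [Group G] [Finite G] {p : ℕ} {M : Ideal Cfsg.AlgInt}

/-- The average of a representation over a subgroup, times a commuting operator, has integral
trace. -/
theorem isIntegral_avg_trace [Fintype G] (P : Subgroup G) [Fintype P] (y : G)
    (hy : ∀ u ∈ P, Commute y u) (χ : IrrCharacter G) :
    IsIntegral ℤ ((Nat.card P : ℂ)⁻¹ * ∑ u : P, (χ : G → ℂ) (y * u)) := by
  obtain ⟨n, ρ, -, h⟩ := χ.2
  rw [← h]
  set π : Module.End ℂ (Fin n → ℂ) := (Nat.card P : ℂ)⁻¹ • ∑ u : P, ρ u with hπ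
  have hcard : (Nat.card P : ℂ) ≠ 0 := by exact_mod_cast Nat.card_pos.ne'
  have hcomm : Commute (ρ y) π := by
    rw [hπ]
    refine (Commute.sum_right _ _ _ fun u _ => ?_).smul_right _
    exact (hy u u.2).map ρ
  have hidem : π * π = π := by
    have h1 : ∀ u : P, ρ u * ∑ v : P, ρ v = ∑ v : P, ρ v := fun u => by
      rw [Finset.mul_sum]
      exact Fintype.sum_equiv (Equiv.mulLeft u) _ _ fun v => by simp
    have h2 : (∑ u : P, ρ u) * (∑ u : P, ρ u) = (Nat.card P : ℂ) • ∑ u : P, ρ u := by
      rw [Finset.sum_mul, Finset.sum_congr rfl fun u _ => h1 u, Finset.sum_const,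
        Finset.card_univ, Nat.card_eq_fintype_card, Nat.cast_smul_eq_nsmul]
    rw [hπ, smul_mul_smul_comm, h2, smul_smul, mul_assoc, inv_mul_cancel₀ hcard, mul_one]
  have hint : IsIntegral ℤ (ρ y * π) := by
    refine ⟨Polynomial.X ^ (orderOf y + 1) - Polynomial.X, ?_, ?_⟩
    · apply Polynomial.monic_X_pow_sub
      rw [Polynomial.degree_X]
      exact_mod_cast Nat.lt_add_of_pos_left (orderOf_pos y)
    · simp only [Polynomial.eval₂_sub, Polynomial.eval₂_X_pow, Polynomial.eval₂_X]
      rw [hcomm.mul_pow, IsIdempotentElem.pow_succ_eq _ hidem, pow_succ, ← map_pow,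
        pow_orderOf_eq_one, map_one, one_mul, sub_self]
  have htr : LinearMap.trace ℂ (Fin n → ℂ) (ρ y * π) =
      (Nat.card P : ℂ)⁻¹ * ∑ u : P, ρ.character (y * u) := by
    rw [hπ, mul_smul_comm, map_smul, Finset.mul_sum, map_sum, smul_eq_mul]
    refine congrArg _ (Finset.sum_congr rfl fun u _ => ?_)
    exact congrArg _ (map_mul ρ y u).symm
  rw [← htr, LinearMap.trace_eq_matrix_trace ℂ (Pi.basisFun ℂ (Fin n))]
  apply isIntegral_trace
  exact hint.map ((LinearMap.toMatrixAlgEquiv (Pi.basisFun ℂ (Fin n))).toAlgHom.restrictScalars ℤ)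

omit [Finite G] in
/-- A `p`-regular element times a commuting `p`-element is `p`-regular only if the latter is 1. -/
theorem eq_one_of_regular_mul [Fact p.Prime] {y u : G} (hyu : Commute y u) (hy : ¬ p ∣ orderOf y)
    {k : ℕ} (hu : u ^ p ^ k = 1) (h : ¬ p ∣ orderOf (y * u)) : u = 1 := by
  by_contra hne
  apply h
  have hdvd : orderOf u ∣ p ^ k := orderOf_dvd_of_pow_eq_one hu
  obtain ⟨j, -, hj⟩ := (Nat.dvd_prime_pow (Fact.out : p.Prime)).1 hdvd
  rw [hyu.orderOf_mul_eq_mul_orderOf_of_coprime, hj]
  · refine Dvd.dvd.mul_left (dvd_pow_self p ?_) _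
    rintro rfl
    rw [pow_zero, orderOf_eq_one_iff] at hj
    exact hne hj
  · rw [hj]
    exact Nat.Coprime.pow_right _ (((Fact.out : p.Prime).coprime_iff_not_dvd.2 hy).symm)

/-- The indicator of a `p`-regular class is, on `p`-regular elements, a local-integer combination
of irreducible characters. -/
theorem exists_indicator [Fact p.Prime] (hM : IsPModular p M) (y : G) (hy : ¬ p ∣ orderOf y) :
    ∃ c : IrrCharacter G → ℂ, (∀ χ, MemLocalRing M (c χ)) ∧
      ∀ x : G, ¬ p ∣ orderOf x →
        (IsConj x y → ∑ᶠ χ : IrrCharacter G, c χ * (χ : G → ℂ) x = 1) ∧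
        (¬ IsConj x y → ∑ᶠ χ : IrrCharacter G, c χ * (χ : G → ℂ) x = 0) := by
  classical
  haveI := Fintype.ofFinite G
  obtain ⟨S⟩ := (inferInstance : Nonempty (Sylow p (Subgroup.centralizer ({y} : Set G))))
  set P : Subgroup G := (S : Subgroup (Subgroup.centralizer ({y} : Set G))).map
    (Subgroup.centralizer ({y} : Set G)).subtype with hP
  haveI : Fintype P := Fintype.ofFinite P
  set k : ℕ := (S : Subgroup (Subgroup.centralizer ({y} : Set G))).index with hk
  have hcardP : Nat.card P = Nat.card (S : Subgroup (Subgroup.centralizer ({y} : Set G))) :=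
    Subgroup.card_map_of_injective (Subgroup.subtype_injective _)
  have hmul : Nat.card P * k = Nat.card (Subgroup.centralizer ({y} : Set G)) := by
    rw [hcardP]; exact Subgroup.card_mul_index _
  have hknd : ¬ p ∣ k := S.not_dvd_index
  have hcomm : ∀ u ∈ P, Commute y u := by
    intro u hu
    obtain ⟨v, -, rfl⟩ := hu
    exact ((Subgroup.mem_centralizer_singleton_iff).1 v.2).symm
  refine ⟨fun χ => (k : ℂ)⁻¹ * conj ((Nat.card P : ℂ)⁻¹ * ∑ u : P, (χ : G → ℂ) (y * u)), ?_, ?_⟩
  · intro χ
    exact memRing_mul hM (memRing_inv_natCast hM hknd) (memRing_algInt hM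
      ((isIntegral_avg_trace P y hcomm χ).map ((starRingEnd ℂ).toIntAlgHom)))
  intro x hx
  have key : ∀ u : P, ∑ χ : IrrCharacter G, (χ : G → ℂ) x * conj ((χ : G → ℂ) (y * u)) =
      if (u = 1 ∧ IsConj x y) then (Nat.card (Subgroup.centralizer ({y} : Set G)) : ℂ) else 0 := by
    intro u
    by_cases hc : IsConj x (y * u)
    · have hreg : ¬ p ∣ orderOf (y * (u : G)) := by
        obtain ⟨c, hc'⟩ := isConj_iff.1 hc
        have : orderOf (y * (u : G)) = orderOf x := by
          rw [← hc']
          exact (MulEquiv.orderOf_eq (MulAut.conj c) x)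
        rwa [this]
      obtain ⟨j, hj⟩ : ∃ j, (u : G) ^ p ^ j = 1 := by
        obtain ⟨v, hv, hvu⟩ := u.2
        obtain ⟨j, hj⟩ := S.isPGroup' ⟨v, hv⟩
        refine ⟨j, ?_⟩
        rw [← hvu, ← map_pow]
        have : v ^ p ^ j = 1 := congrArg Subtype.val hj
        rw [this, map_one]
      have hu1 : (u : G) = 1 := eq_one_of_regular_mul (hcomm u u.2) hy hj hreg
      rw [hu1, mul_one] at hc ⊢
      rw [CfsgLib.Char.sum_mul_conj, if_pos hc, if_pos ⟨Subtype.ext hu1, hc⟩]
      congr 1
      have h1 := csize_mul_card x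
      have h2 := csize_mul_card y
      obtain ⟨c, hc'⟩ := isConj_iff.1 hc
      have h3 : Subgroup.centralizer ({y} : Set G) =
          (Subgroup.centralizer ({x} : Set G)).map (MulAut.conj c).toMonoidHom := by
        ext z
        simp only [Subgroup.mem_map_equiv, MulAut.conj_symm_apply,
          Subgroup.mem_centralizer_singleton_iff]
        subst hc'
        constructor <;> intro hz
        · have := congrArg (fun w => c⁻¹ * w * c) hz
          simpa [mul_assoc] using this
        · have := congrArg (fun w => c * w * c⁻¹) hz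
          simpa [mul_assoc] using this
      rw [h3]
      exact (Subgroup.card_map_of_injective (MulAut.conj c).injective).symm
    · rw [CfsgLib.Char.sum_mul_conj, if_neg hc, if_neg]
      rintro ⟨rfl, h⟩
      exact hc (by simpa using h)
  have hsum : ∑ᶠ χ : IrrCharacter G, (k : ℂ)⁻¹ *
      conj ((Nat.card P : ℂ)⁻¹ * ∑ u : P, (χ : G → ℂ) (y * u)) * (χ : G → ℂ) x =
      (k : ℂ)⁻¹ * ((Nat.card P : ℂ)⁻¹ * ∑ u : P,
        ∑ χ : IrrCharacter G, (χ : G → ℂ) x * conj ((χ : G → ℂ) (y * u))) := by
    rw [finsum_eq_sum_of_fintype, Finset.sum_comm, Finset.mul_sum, Finset.mul_sum]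
    refine Finset.sum_congr rfl fun χ _ => ?_
    rw [map_mul, map_inv₀, map_natCast, map_sum, ← Finset.mul_sum]
    ring
  have hk0 : (k : ℂ) ≠ 0 := by exact_mod_cast Subgroup.index_ne_zero_of_finite
  have hP0 : (Nat.card P : ℂ) ≠ 0 := by exact_mod_cast Nat.card_pos.ne'
  simp only [hsum, key]
  constructor
  · intro hc
    simp only [hc, and_true, Finset.sum_ite_eq', Finset.mem_univ, if_true, ← hmul]
    push_cast
    field_simp
  · intro hc
    simp only [hc, and_false, if_false, Finset.sum_const_zero, mul_zero]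

/-- Every class function with local-integer values is, on regular elements, a local-integer
combination of irreducible characters. -/
theorem exists_combination [Fact p.Prime] (hM : IsPModular p M) (f : G → ℂ)
    (hf : ∀ g h, IsConj g h → f g = f h) (hR : ∀ g, MemLocalRing M (f g)) :
    ∃ c : IrrCharacter G → ℂ, (∀ χ, MemLocalRing M (c χ)) ∧
      ∀ x : G, ¬ p ∣ orderOf x → ∑ᶠ χ : IrrCharacter G, c χ * (χ : G → ℂ) x = f x := by
  classical
  haveI := Fintype.ofFinite (ConjClasses G)
  have hex : ∀ C : ConjClasses G, ∃ c : IrrCharacter G → ℂ, (∀ χ, MemLocalRing M (c χ)) ∧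
      ∀ x : G, ¬ p ∣ orderOf x →
        ∑ χ : IrrCharacter G, c χ * (χ : G → ℂ) x =
          if ConjClasses.mk x = C then f x else 0 := by
    intro C
    by_cases hC : p ∣ orderOf C.out
    · refine ⟨0, fun _ => memRing_zero hM, fun x hx => ?_⟩
      rw [if_neg]
      · simp
      intro h
      apply hx
      have : IsConj x C.out := ConjClasses.mk_eq_mk_iff_isConj.1 (h.trans (Quotient.out_eq C).symm)
      obtain ⟨c, hc⟩ := isConj_iff.1 this
      have h2 : orderOf C.out = orderOf x := by
        rw [← hc]; exact MulEquiv.orderOf_eq (MulAut.conj c) x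
      rwa [← h2]
    · obtain ⟨c, hc, hcx⟩ := exists_indicator hM C.out hC
      refine ⟨fun χ => f C.out * c χ, fun χ => memRing_mul hM (hR _) (hc χ), fun x hx => ?_⟩
      simp only [mul_assoc, ← Finset.mul_sum]
      rw [← finsum_eq_sum_of_fintype]
      have hiff : ConjClasses.mk x = C ↔ IsConj x C.out := by
        conv_lhs => rw [show C = ConjClasses.mk C.out from (Quotient.out_eq C).symm]
        exact ConjClasses.mk_eq_mk_iff_isConj
      by_cases h : IsConj x C.out
      · rw [(hcx x hx).1 h, if_pos (hiff.2 h), mul_one, hf _ _ h]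
      · rw [(hcx x hx).2 h, if_neg (fun hh => h (hiff.1 hh)), mul_zero]
  choose c hc hcx using hex
  refine ⟨fun χ => ∑ C, c C χ, fun χ => memRing_sum hM _ fun C _ => hc C χ, fun x hx => ?_⟩
  rw [finsum_eq_sum_of_fintype]
  simp only [Finset.sum_mul]
  rw [Finset.sum_comm, Finset.sum_congr rfl fun C _ => hcx C x hx]
  simp

/-- Block orthogonality in both orders. -/
theorem block_orth_swap [Fact p.Prime] (hM : IsPModular p M) {B : Set (IrrCharacter G)}
    (hB : IsPBlock M B) (x y : G) (hx : ¬ p ∣ orderOf x) (hy : p ∣ orderOf y) :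
    ∑ᶠ χ ∈ B, (χ : G → ℂ) y * conj ((χ : G → ℂ) x) = 0 := by
  have h := congrArg conj (block_orthogonality hM hB x y hx hy)
  rw [map_zero] at h
  rw [← h, finsum_mem_eq_sum_of_inter_support_eq _ (t := B.toFinite.toFinset) (by simp),
    finsum_mem_eq_sum_of_inter_support_eq _ (t := B.toFinite.toFinset) (by simp), map_sum]
  exact Finset.sum_congr rfl fun χ _ => by rw [map_mul, Complex.conj_conj, mul_comm]

/-- A combination of a block that agrees on regular elements with some combination of all
irreducible characters agrees there with the part of the latter inside the block. -/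
theorem proj_regular [Fact p.Prime] (hM : IsPModular p M) {B : Set (IrrCharacter G)}
    (hB : IsPBlock M B) (b c : IrrCharacter G → ℂ)
    (h : ∀ x : G, ¬ p ∣ orderOf x →
      ∑ᶠ χ ∈ B, b χ * (χ : G → ℂ) x = ∑ᶠ χ : IrrCharacter G, c χ * (χ : G → ℂ) x)
    (x : G) (hx : ¬ p ∣ orderOf x) :
    ∑ᶠ χ ∈ B, b χ * (χ : G → ℂ) x = ∑ᶠ χ ∈ B, c χ * (χ : G → ℂ) x := by
  classical
  haveI := Fintype.ofFinite G
  have hB' : ∀ F : IrrCharacter G → ℂ, ∑ᶠ χ ∈ B, F χ = ∑ χ ∈ B.toFinset, F χ :=
    fun F => finsum_mem_eq_toFinset_sum F B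
  set d : IrrCharacter G → ℂ := fun χ => (if χ ∈ B then b χ else 0) - c χ with hd
  have hzero : ∀ y : G, ¬ p ∣ orderOf y → ∑ χ, d χ * (χ : G → ℂ) y = 0 := by
    intro y hy
    have := h y hy
    rw [hB', finsum_eq_sum_of_fintype] at this
    simp only [hd, sub_mul, Finset.sum_sub_distrib, ite_mul, zero_mul]
    rw [← Finset.sum_filter, ← this, sub_eq_zero]
    congr 1
    ext χ; simp
  have hcoef : ∀ ξ : IrrCharacter G,
      classInner (fun y => ∑ χ, d χ * (χ : G → ℂ) y) (ξ : G → ℂ) = d ξ := by
    intro ξ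
    have : classInner (fun y => ∑ χ, d χ * (χ : G → ℂ) y) (ξ : G → ℂ) =
        ∑ χ, d χ * classInner (χ : G → ℂ) (ξ : G → ℂ) := by
      simp only [classInner, Finset.sum_mul]
      rw [Finset.sum_comm, Finset.mul_sum]
      refine Finset.sum_congr rfl fun χ _ => ?_
      rw [Finset.mul_sum, Finset.mul_sum, Finset.mul_sum]
      exact Finset.sum_congr rfl fun g _ => by ring
    rw [this]
    simp [CfsgLib.Char.classInner_irrCharacter]
  have hmain : ∑ ξ ∈ B.toFinset, d ξ * (ξ : G → ℂ) x = 0 := by
    rw [Finset.sum_congr rfl fun ξ _ => by rw [← hcoef ξ]]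
    have hy0 : ∀ y : G, ∑ ξ ∈ B.toFinset,
        (∑ χ, d χ * (χ : G → ℂ) y) * conj ((ξ : G → ℂ) y) * (ξ : G → ℂ) x = 0 := by
      intro y
      by_cases hy : p ∣ orderOf y
      · have := block_orthogonality hM hB x y hx hy
        rw [hB'] at this
        simp only [mul_assoc, ← Finset.mul_sum]
        refine mul_eq_zero_of_right _ ?_
        rw [← this]
        exact Finset.sum_congr rfl fun χ _ => mul_comm _ _
      · simp [hzero y hy]
    calc ∑ ξ ∈ B.toFinset, classInner (fun y => ∑ χ, d χ * (χ : G → ℂ) y) (ξ : G → ℂ) *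
          (ξ : G → ℂ) x
        = (Nat.card G : ℂ)⁻¹ * ∑ y : G, ∑ ξ ∈ B.toFinset,
            (∑ χ, d χ * (χ : G → ℂ) y) * conj ((ξ : G → ℂ) y) * (ξ : G → ℂ) x := by
          rw [Finset.sum_comm, Finset.mul_sum]
          refine Finset.sum_congr rfl fun ξ _ => ?_
          rw [classInner, mul_assoc, Finset.sum_mul]
      _ = 0 := by simp [hy0]
  rw [hB', hB', ← sub_eq_zero, ← Finset.sum_sub_distrib, ← hmain]
  refine Finset.sum_congr rfl fun ξ hξ => ?_
  rw [hd]
  simp only [if_pos (Set.mem_toFinset.1 hξ)]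
  ring

/-- The block idempotent coefficient is a class function. -/
theorem blockCoeff_congr (B : Set (IrrCharacter G)) {g h : G} (hgh : IsConj g h) :
    blockCoeff B g = blockCoeff B h := by
  unfold blockCoeff
  congr 1
  exact finsum_mem_congr rfl fun χ _ => by rw [char_conj_invariant χ g h hgh]

theorem blockCoeff_inv (B : Set (IrrCharacter G)) (g : G) :
    blockCoeff B g⁻¹ = ∑ᶠ χ ∈ B, ((Nat.card G : ℂ)⁻¹ * (χ : G → ℂ) 1) * (χ : G → ℂ) g := by
  unfold blockCoeff
  rw [mul_finsum_mem' _ _ (Set.toFinite B)]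
  exact finsum_mem_congr rfl fun χ _ => by rw [char_inv, Complex.conj_conj]; ring

/-- The block idempotent has coefficient zero at singular elements. -/
theorem blockCoeff_singular [Fact p.Prime] (hM : IsPModular p M) {B : Set (IrrCharacter G)}
    (hB : IsPBlock M B) (g : G) (hg : p ∣ orderOf g) : blockCoeff B g = 0 := by
  unfold blockCoeff
  rw [block_orthogonality hM hB 1 g (by simp [(Fact.out : p.Prime).ne_one]) hg, mul_zero]

/-- On regular elements the block idempotent is a local combination of the block's characters. -/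
theorem exists_blockCoeff_combination [Fact p.Prime] (hM : IsPModular p M)
    {B : Set (IrrCharacter G)} (hB : IsPBlock M B) :
    ∃ c : IrrCharacter G → ℂ, (∀ χ, MemLocalRing M (c χ)) ∧
      ∀ x : G, ¬ p ∣ orderOf x → blockCoeff B x⁻¹ = ∑ᶠ χ ∈ B, c χ * (χ : G → ℂ) x := by
  obtain ⟨c, hc, hcx⟩ := exists_combination hM (fun g => blockCoeff B g⁻¹)
    (fun g h hgh => blockCoeff_congr B (by
      obtain ⟨c, hc⟩ := isConj_iff.1 hgh
      exact isConj_iff.2 ⟨c, by rw [← hc]; group⟩))
    (fun g => memRing_blockCoeff hM hB g⁻¹)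
  refine ⟨c, hc, fun x hx => ?_⟩
  rw [blockCoeff_inv]
  refine proj_regular hM hB _ c (fun y hy => ?_) x hx
  rw [← blockCoeff_inv, hcx y hy]

/-- The central character at the block idempotent. -/
theorem sum_blockCoeff_mul_char [Fintype G] (B : Set (IrrCharacter G)) (ξ : IrrCharacter G) :
    (ξ ∈ B → (∑ g, blockCoeff B g * (ξ : G → ℂ) g) / (ξ : G → ℂ) 1 = 1) ∧
    (ξ ∉ B → (∑ g, blockCoeff B g * (ξ : G → ℂ) g) / (ξ : G → ℂ) 1 = 0) := by
  classical
  have : ∑ g, blockCoeff B g * (ξ : G → ℂ) g =
      ∑ χ ∈ B.toFinset, (χ : G → ℂ) 1 * classInner (ξ : G → ℂ) (χ : G → ℂ) := by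
    simp only [blockCoeff, finsum_mem_eq_toFinset_sum, classInner, Finset.mul_sum, Finset.sum_mul]
    rw [Finset.sum_comm]
    exact Finset.sum_congr rfl fun χ _ => Finset.sum_congr rfl fun g _ => by ring
  rw [this]
  simp only [CfsgLib.Char.classInner_irrCharacter, mul_ite, mul_one, mul_zero, Finset.sum_ite_eq, Set.mem_toFinset]
  exact ⟨fun h => by rw [if_pos h, div_self (deg_ne_zero ξ)],
    fun h => by rw [if_neg h, zero_div]⟩

/-- Every block has a class, `p`-regular, where the idempotent coefficient is a unit and the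
central character is nonzero mod `M`. -/
theorem exists_defect_class [Fact p.Prime] (hM : IsPModular p M) {B : Set (IrrCharacter G)}
    (hB : IsPBlock M B) :
    ∃ g : G, ¬ p ∣ orderOf g ∧ IsDefectClass M B g := by
  classical
  haveI := Fintype.ofFinite G
  haveI := Fintype.ofFinite (ConjClasses G)
  obtain ⟨ξ, hξ⟩ := block_nonempty hM hB
  have h1 := (sum_blockCoeff_mul_char B ξ).1 hξ
  rw [sum_mul_char_div ξ _ (fun g h hgh => blockCoeff_congr B hgh)] at h1
  obtain ⟨C, hC⟩ : ∃ C : ConjClasses G,
      ¬ MemLocalIdeal M (blockCoeff B C.out * centralChar (ξ : G → ℂ) C.out) := by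
    by_contra hcon
    push Not at hcon
    exact not_memIdeal_one hM (h1 ▸ memIdeal_sum hM _ fun C _ => hcon C)
  refine ⟨C.out, fun hs => hC ?_, memRing_blockCoeff hM hB _, fun h => hC ?_, fun χ hχ h => hC ?_⟩
  · rw [blockCoeff_singular hM hB _ hs, zero_mul]; exact memIdeal_zero hM
  · exact memIdeal_mul_right hM h (memRing_centralChar hM ξ _)
  · exact memIdeal_mul_left hM (memRing_blockCoeff hM hB _)
      ((memIdeal_iff_of_sub hM (block_congr hM hB hξ hχ C.out)).2 h)

/-- Where the central character of a block is nonzero mod `M`, the class is small. -/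
theorem factorization_csize_le (hM : IsPModular p M) {B : Set (IrrCharacter G)}
    (hB : IsPBlock M B) {χ : IrrCharacter G} (hχ : χ ∈ B) {g : G}
    (h : ¬ MemLocalIdeal M (centralChar (χ : G → ℂ) g)) :
    (csize g).factorization p ≤ minExp p B := by
  obtain ⟨ξ, hξ, hmin⟩ := exists_minExp (p := p) (block_nonempty hM hB)
  by_contra hlt
  push Not at hlt
  apply h
  exact (memIdeal_iff_of_sub hM (block_congr hM hB hχ hξ g)).2
    (centralChar_memIdeal hM ξ g (hmin ▸ hlt))

/-- Where the idempotent coefficient of a block is nonzero mod `M`, the class is large. -/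
theorem le_factorization_csize [Fact p.Prime] (hM : IsPModular p M) {B : Set (IrrCharacter G)}
    (hB : IsPBlock M B) {g : G} (h : ¬ MemLocalIdeal M (blockCoeff B g)) :
    minExp p B ≤ (csize g).factorization p := by
  classical
  have hreg : ¬ p ∣ orderOf g := fun hs => h (by rw [blockCoeff_singular hM hB g hs]; exact memIdeal_zero hM)
  obtain ⟨c, hc, hcx⟩ := exists_blockCoeff_combination hM hB
  by_contra hlt
  push Not at hlt
  apply h
  rw [← inv_inv g, hcx g⁻¹ (by rwa [orderOf_inv]), finsum_mem_eq_toFinset_sum]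
  refine memIdeal_sum hM _ fun χ hχ => memIdeal_mul_left hM (hc χ) (char_memIdeal hM χ _ ?_)
  rw [csize_inv]
  exact lt_of_lt_of_le hlt (minExp_le (Set.mem_toFinset.1 hχ))

theorem factorization_csize_defectClass [Fact p.Prime] (hM : IsPModular p M)
    {B : Set (IrrCharacter G)} (hB : IsPBlock M B) {g : G} (h : IsDefectClass M B g) :
    (csize g).factorization p = minExp p B := by
  obtain ⟨χ, hχ⟩ := block_nonempty hM hB
  exact le_antisymm (factorization_csize_le hM hB hχ (h.2.2 χ hχ))
    (le_factorization_csize hM hB h.2.1)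

end CfsgLib.BlockReg
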