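import Cfsg.Agent.Lib.BlockReg.Regular
import Mathlib.Data.Nat.Factorization.Basic

/-!
# The regular restriction of a character: heights, degree squares, the Brauer-Feit bound
-/

set_option autoImplicit false

namespace CfsgLib.BlockReg

open Cfsg
open scoped ComplexConjugate

universe u

variable {G : Type u} [Group G] [Finite G] {p : ℕ} {M : Ideal Cfsg.AlgInt}

/-- `p^a` times `f` on regular elements, zero on singular elements. -/
noncomputable def tilde (p : ℕ) (f : G → ℂ) : G → ℂ :=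
  fun x => if p ∣ orderOf x then (0 : ℂ) else ((p ^ (Nat.card G).factorization p : ℕ) : ℂ) * f x

theorem tilde_congr (p : ℕ) (χ : IrrCharacter G) (g h : G) (hgh : IsConj g h) :
    tilde p (χ : G → ℂ) g = tilde p (χ : G → ℂ) h := by
  obtain ⟨c, hc⟩ := isConj_iff.1 hgh
  have h2 : orderOf h = orderOf g := by rw [← hc]; exact MulEquiv.orderOf_eq (MulAut.conj c) g
  simp only [tilde, h2, char_conj_invariant χ g h hgh]

/-- `[tilde χ, ψ] / ψ 1`. -/
noncomputable def rInner [Fintype G] (p : ℕ) (χ ψ : G → ℂ) : ℂ :=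
  classInner (tilde p χ) ψ / ψ 1

theorem classInner_eq_rInner_mul [Fintype G] (p : ℕ) (f : G → ℂ) (ψ : IrrCharacter G) :
    classInner (tilde p f) (ψ : G → ℂ) = rInner p f (ψ : G → ℂ) * (charDegree (ψ : G → ℂ) : ℂ) := by
  rw [rInner, deg_cast, div_mul_cancel₀ _ (deg_ne_zero ψ)]

/-- The unit `p^a / #G`. -/
noncomputable def pUnit (p : ℕ) (G : Type u) : ℂ :=
  ((p ^ (Nat.card G).factorization p : ℕ) : ℂ) / (Nat.card G : ℂ)

theorem pUnit_spec (hM : IsPModular p M) :
    MemLocalRing M (pUnit p G) ∧ ¬ MemLocalIdeal M (pUnit p G) :=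
  natCast_div_unit hM (pow_ne_zero _ hM.1.ne_zero) Nat.card_pos.ne'
    (by rw [hM.1.factorization_pow, Finsupp.single_eq_same])

/-- One class's contribution to `rInner`. -/
noncomputable def rTerm (p : ℕ) (χ ψ : G → ℂ) (x : G) : ℂ :=
  if p ∣ orderOf x then 0 else χ x * centralChar ψ x⁻¹

theorem rInner_eq_sum [Fintype G] [Fintype (ConjClasses G)] (p : ℕ) (χ ψ : IrrCharacter G) :
    rInner p (χ : G → ℂ) (ψ : G → ℂ) =
      pUnit p G * ∑ C : ConjClasses G, rTerm p (χ : G → ℂ) (ψ : G → ℂ) C.out := by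
  rw [rInner, classInner,
    sum_eq_sum_classes (fun g => tilde p (χ : G → ℂ) g * conj ((ψ : G → ℂ) g))
      (fun g h hgh => by show _ * _ = _; rw [tilde_congr p χ g h hgh, char_conj_invariant ψ g h hgh]),
    mul_div_assoc, Finset.sum_div, Finset.mul_sum, Finset.mul_sum]
  refine Finset.sum_congr rfl fun C _ => ?_
  simp only [tilde, rTerm, centralChar_eq, csize_inv, char_inv, pUnit]
  split_ifs
  · simp
  · ring

theorem rInner_memRing [Fintype G] (hM : IsPModular p M) (χ ψ : IrrCharacter G) :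
    MemLocalRing M (rInner p (χ : G → ℂ) (ψ : G → ℂ)) := by
  classical
  haveI := Fintype.ofFinite (ConjClasses G)
  rw [rInner_eq_sum]
  refine memRing_mul hM (pUnit_spec hM).1 (memRing_sum hM _ fun C _ => ?_)
  unfold rTerm
  split_ifs
  · exact memRing_zero hM
  · exact memRing_mul hM (memRing_char hM χ _) (memRing_centralChar hM ψ _)

theorem rInner_congr [Fintype G] (hM : IsPModular p M) {B : Set (IrrCharacter G)}
    (hB : IsPBlock M B) (χ : IrrCharacter G) {ψ ψ' : IrrCharacter G} (h : ψ ∈ B) (h' : ψ' ∈ B) :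
    MemLocalIdeal M (rInner p (χ : G → ℂ) (ψ : G → ℂ) - rInner p (χ : G → ℂ) (ψ' : G → ℂ)) := by
  classical
  haveI := Fintype.ofFinite (ConjClasses G)
  rw [rInner_eq_sum, rInner_eq_sum, ← mul_sub, ← Finset.sum_sub_distrib]
  refine memIdeal_mul_left hM (pUnit_spec hM).1 (memIdeal_sum hM _ fun C _ => ?_)
  unfold rTerm
  split_ifs
  · rw [sub_self]; exact memIdeal_zero hM
  · rw [← mul_sub]
    exact memIdeal_mul_left hM (memRing_char hM χ _) (block_congr hM hB h h' _)

/-- Characters of positive height have `rInner` in the ideal against their block. -/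
theorem rInner_memIdeal [Fintype G] (hM : IsPModular p M) {B : Set (IrrCharacter G)}
    (hB : IsPBlock M B) {χ ψ : IrrCharacter G} (hψ : ψ ∈ B)
    (h : minExp p B < (charDegree (χ : G → ℂ)).factorization p) :
    MemLocalIdeal M (rInner p (χ : G → ℂ) (ψ : G → ℂ)) := by
  classical
  haveI := Fintype.ofFinite (ConjClasses G)
  rw [rInner_eq_sum]
  refine memIdeal_mul_left hM (pUnit_spec hM).1 (memIdeal_sum hM _ fun C _ => ?_)
  unfold rTerm
  split_ifs
  · exact memIdeal_zero hM
  · by_cases hω : MemLocalIdeal M (centralChar (ψ : G → ℂ) C.out⁻¹)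
    · exact memIdeal_mul_left hM (memRing_char hM χ _) hω
    · refine memIdeal_mul_right hM (char_memIdeal hM χ _ ?_) (memRing_centralChar hM ψ _)
      have := factorization_csize_le hM hB hψ hω
      rw [csize_inv] at this
      omega

/-- Characters of height zero have proportional `rInner`. -/
theorem rInner_scale [Fintype G] (hM : IsPModular p M) {B : Set (IrrCharacter G)}
    (hB : IsPBlock M B) {χ ξ ψ : IrrCharacter G} (hχ : χ ∈ B) (hξ : ξ ∈ B) (hψ : ψ ∈ B)
    (hmχ : (charDegree (χ : G → ℂ)).factorization p = minExp p B)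
    (hmξ : (charDegree (ξ : G → ℂ)).factorization p = minExp p B) :
    MemLocalIdeal M (rInner p (χ : G → ℂ) (ψ : G → ℂ) -
      ((charDegree (χ : G → ℂ) : ℂ) / (charDegree (ξ : G → ℂ) : ℂ)) *
        rInner p (ξ : G → ℂ) (ψ : G → ℂ)) := by
  classical
  haveI := Fintype.ofFinite (ConjClasses G)
  set u : ℂ := (charDegree (χ : G → ℂ) : ℂ) / (charDegree (ξ : G → ℂ) : ℂ) with hu
  have hu' : MemLocalRing M u :=
    (natCast_div_unit hM (deg_pos χ).ne' (deg_pos ξ).ne' (hmχ.trans hmξ.symm)).1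
  rw [rInner_eq_sum, rInner_eq_sum, mul_left_comm, ← mul_sub, Finset.mul_sum,
    ← Finset.sum_sub_distrib]
  refine memIdeal_mul_left hM (pUnit_spec hM).1 (memIdeal_sum hM _ fun C _ => ?_)
  unfold rTerm
  split_ifs
  · simpa using memIdeal_zero hM
  · rw [← mul_assoc, ← sub_mul]
    by_cases hω : MemLocalIdeal M (centralChar (ψ : G → ℂ) C.out⁻¹)
    · exact memIdeal_mul_left hM (memRing_sub hM (memRing_char hM χ _)
        (memRing_mul hM hu' (memRing_char hM ξ _))) hω
    · refine memIdeal_mul_right hM ?_ (memRing_centralChar hM ψ _)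
      have hle := factorization_csize_le hM hB hψ hω
      rw [csize_inv] at hle
      have hq : MemLocalRing M ((charDegree (χ : G → ℂ) : ℂ) / (csize C.out : ℂ)) :=
        natCast_div_memRing hM (csize_ne_zero _) (Or.inr (hmχ ▸ hle))
      have hξ0 : (charDegree (ξ : G → ℂ) : ℂ) ≠ 0 := by exact_mod_cast (deg_pos ξ).ne'
      have hK : (csize C.out : ℂ) ≠ 0 := by exact_mod_cast csize_ne_zero _
      have : (χ : G → ℂ) C.out - u * (ξ : G → ℂ) C.out =
          (centralChar (χ : G → ℂ) C.out - centralChar (ξ : G → ℂ) C.out) *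
            ((charDegree (χ : G → ℂ) : ℂ) / (csize C.out : ℂ)) := by
        rw [char_eq_centralChar_mul χ C.out, char_eq_centralChar_mul ξ C.out, hu]
        field_simp
      rw [this]
      exact memIdeal_mul_right hM (block_congr hM hB hχ hξ _) hq

theorem sum_combination_rInner [Fact p.Prime] [Fintype G] (hM : IsPModular p M)
    {B : Set (IrrCharacter G)} (hB : IsPBlock M B) (ψ : IrrCharacter G) (hψ : ψ ∈ B)
    (c : IrrCharacter G → ℂ)
    (hc : ∀ x : G, ¬ p ∣ orderOf x → blockCoeff B x⁻¹ = ∑ᶠ χ ∈ B, c χ * (χ : G → ℂ) x) :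
    ∑ᶠ χ ∈ B, c χ * rInner p (χ : G → ℂ) (ψ : G → ℂ) = pUnit p G := by
  classical
  rw [finsum_mem_eq_toFinset_sum]
  have h1 := (sum_blockCoeff_mul_char B ψ).1 hψ
  rw [← Equiv.sum_comp (Equiv.inv G)] at h1
  have hterm : ∀ g : G, ∑ χ ∈ B.toFinset, c χ * (tilde p (χ : G → ℂ) g * conj ((ψ : G → ℂ) g)) =
      ((p ^ (Nat.card G).factorization p : ℕ) : ℂ) * (blockCoeff B g⁻¹ * (ψ : G → ℂ) g⁻¹) := by
    intro g
    unfold tilde
    by_cases hg : p ∣ orderOf g
    · simp [hg, blockCoeff_singular hM hB g⁻¹ (by rwa [orderOf_inv])]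
    · rw [hc g hg, finsum_mem_eq_toFinset_sum, char_inv ψ, Finset.sum_mul, Finset.mul_sum]
      simp only [hg, if_false]
      exact Finset.sum_congr rfl fun χ _ => by ring
  calc ∑ χ ∈ B.toFinset, c χ * rInner p (χ : G → ℂ) (ψ : G → ℂ)
      = (Nat.card G : ℂ)⁻¹ * (∑ g, ∑ χ ∈ B.toFinset,
          c χ * (tilde p (χ : G → ℂ) g * conj ((ψ : G → ℂ) g))) / (ψ : G → ℂ) 1 := by
        rw [Finset.sum_comm, Finset.mul_sum, Finset.sum_div]
        refine Finset.sum_congr rfl fun χ _ => ?_
        rw [rInner, classInner, ← Finset.mul_sum]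
        ring
    _ = pUnit p G := by
        simp only [hterm, ← Finset.mul_sum]
        simp only [Equiv.inv_apply] at h1
        rw [pUnit, div_eq_mul_inv _ ((ψ : G → ℂ) 1)]
        rw [div_eq_mul_inv] at h1
        linear_combination ((p ^ (Nat.card G).factorization p : ℕ) : ℂ) * (Nat.card G : ℂ)⁻¹ * h1

/-- Height zero characters have unit `rInner` against their block. -/
theorem rInner_not_memIdeal [Fact p.Prime] [Fintype G] (hM : IsPModular p M)
    {B : Set (IrrCharacter G)} (hB : IsPBlock M B) {χ ψ : IrrCharacter G} (hχ : χ ∈ B)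
    (hψ : ψ ∈ B) (hmχ : (charDegree (χ : G → ℂ)).factorization p = minExp p B) :
    ¬ MemLocalIdeal M (rInner p (χ : G → ℂ) (ψ : G → ℂ)) := by
  classical
  obtain ⟨c, hc, hcx⟩ := exists_blockCoeff_combination hM hB
  have hsum := sum_combination_rInner hM hB ψ hψ c hcx
  rw [finsum_mem_eq_toFinset_sum] at hsum
  obtain ⟨ξ, hξ, hξr⟩ : ∃ ξ ∈ B.toFinset, ¬ MemLocalIdeal M (rInner p (ξ : G → ℂ) (ψ : G → ℂ)) := by
    by_contra hcon
    push Not at hcon
    exact (pUnit_spec hM).2
      (hsum ▸ memIdeal_sum hM _ fun ξ hξ => memIdeal_mul_left hM (hc ξ) (hcon ξ hξ))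
  rw [Set.mem_toFinset] at hξ
  have hmξ : (charDegree (ξ : G → ℂ)).factorization p = minExp p B := by
    refine le_antisymm ?_ (minExp_le hξ)
    by_contra hlt
    exact hξr (rInner_memIdeal hM hB hψ (not_le.1 hlt))
  obtain ⟨hu, hu'⟩ := natCast_div_unit hM (deg_pos χ).ne' (deg_pos ξ).ne' (hmχ.trans hmξ.symm)
  rw [memIdeal_iff_of_sub hM (rInner_scale hM hB hχ hξ hψ hmχ hmξ)]
  exact not_memIdeal_mul hM hu (rInner_memRing hM ξ ψ) hu' hξr

/-- Irreducible characters of different blocks are orthogonal on regular elements. -/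
theorem classInner_tilde_eq_zero [Fact p.Prime] [Fintype G] (hM : IsPModular p M)
    {B : Set (IrrCharacter G)} (hB : IsPBlock M B) {χ ψ : IrrCharacter G} (hχ : χ ∈ B)
    (hψ : ψ ∉ B) : classInner (tilde p (χ : G → ℂ)) (ψ : G → ℂ) = 0 := by
  classical
  -- the block kernel
  set K : G → G → ℂ := fun y z => ∑ ξ ∈ B.toFinset, (ξ : G → ℂ) y * conj ((ξ : G → ℂ) z) with hK
  have horth : ∀ ξ η : IrrCharacter G,
      ∑ g, (ξ : G → ℂ) g * conj ((η : G → ℂ) g) = if ξ = η then (Nat.card G : ℂ) else 0 := by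
    intro ξ η
    have h0 : (Nat.card G : ℂ) ≠ 0 := by exact_mod_cast Nat.card_pos.ne'
    have h := CfsgLib.Char.classInner_irrCharacter ξ η
    rw [classInner, inv_mul_eq_iff_eq_mul₀ h0] at h
    rw [h]; split_ifs <;> simp
  have hrs : ∀ y z : G, ¬ p ∣ orderOf y → p ∣ orderOf z → K y z = 0 ∧ K z y = 0 := by
    intro y z hy hz
    have h1 := block_orthogonality hM hB y z hy hz
    have h2 := block_orth_swap hM hB y z hy hz
    rw [finsum_mem_eq_toFinset_sum] at h1 h2
    exact ⟨h1, h2⟩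
  have hrepr : ∀ y, ¬ p ∣ orderOf y → (Nat.card G : ℂ) * (χ : G → ℂ) y =
      ∑ z, if p ∣ orderOf z then 0 else (χ : G → ℂ) z * K y z := by
    intro y hy
    calc (Nat.card G : ℂ) * (χ : G → ℂ) y = ∑ z, (χ : G → ℂ) z * K y z := by
          simp only [hK, Finset.mul_sum]
          rw [Finset.sum_comm]
          have : ∀ ξ ∈ B.toFinset, ∑ z, (χ : G → ℂ) z * ((ξ : G → ℂ) y * conj ((ξ : G → ℂ) z)) =
              (ξ : G → ℂ) y * (if χ = ξ then (Nat.card G : ℂ) else 0) := by
            intro ξ _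
            rw [← horth, Finset.mul_sum]
            exact Finset.sum_congr rfl fun z _ => by ring
          rw [Finset.sum_congr rfl this]
          simp [Finset.sum_ite_eq, hχ, mul_comm]
      _ = _ := Finset.sum_congr rfl fun z _ => by
          split_ifs with hz
          · rw [(hrs y z hy hz).1, mul_zero]
          · rfl
  have hzero : ∀ z, ¬ p ∣ orderOf z →
      ∑ y, (if p ∣ orderOf y then 0 else K y z * conj ((ψ : G → ℂ) y)) = 0 := by
    intro z hz
    calc ∑ y, (if p ∣ orderOf y then 0 else K y z * conj ((ψ : G → ℂ) y))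
        = ∑ y, K y z * conj ((ψ : G → ℂ) y) := Finset.sum_congr rfl fun y _ => by
          split_ifs with hy
          · rw [(hrs z y hz hy).2, zero_mul]
          · rfl
      _ = ∑ ξ ∈ B.toFinset, conj ((ξ : G → ℂ) z) * (if ξ = ψ then (Nat.card G : ℂ) else 0) := by
          simp only [hK, Finset.sum_mul]
          rw [Finset.sum_comm]
          refine Finset.sum_congr rfl fun ξ _ => ?_
          rw [← horth, Finset.mul_sum]
          exact Finset.sum_congr rfl fun z _ => by ring
      _ = 0 := Finset.sum_eq_zero fun ξ hξ => by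
          rw [if_neg, mul_zero]
          rintro rfl
          exact hψ (Set.mem_toFinset.1 hξ)
  have h0 : (Nat.card G : ℂ) ≠ 0 := by exact_mod_cast Nat.card_pos.ne'
  have hmain : (Nat.card G : ℂ) *
      ∑ y, (if p ∣ orderOf y then 0 else (χ : G → ℂ) y * conj ((ψ : G → ℂ) y)) = 0 := by
    rw [Finset.mul_sum]
    calc _ = ∑ y, ∑ z, (if p ∣ orderOf z then 0 else
            (χ : G → ℂ) z * (if p ∣ orderOf y then 0 else K y z * conj ((ψ : G → ℂ) y))) := by
          refine Finset.sum_congr rfl fun y _ => ?_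
          by_cases hy : p ∣ orderOf y
          · simp [hy]
          · simp only [hy, if_false]
            rw [← mul_assoc, hrepr y hy, Finset.sum_mul]
            exact Finset.sum_congr rfl fun z _ => by split_ifs <;> ring
      _ = 0 := by
          rw [Finset.sum_comm]
          refine Finset.sum_eq_zero fun z _ => ?_
          by_cases hz : p ∣ orderOf z
          · simp [hz]
          · simp only [hz, if_false, ← Finset.mul_sum, hzero z hz, mul_zero]
  have h2 := (mul_eq_zero.1 hmain).resolve_left h0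
  rw [classInner]
  refine mul_eq_zero_of_right _ ?_
  have : ∀ y, tilde p (χ : G → ℂ) y * conj ((ψ : G → ℂ) y) =
      ((p ^ (Nat.card G).factorization p : ℕ) : ℂ) *
        (if p ∣ orderOf y then 0 else (χ : G → ℂ) y * conj ((ψ : G → ℂ) y)) := by
    intro y
    unfold tilde
    split_ifs <;> ring
  rw [Finset.sum_congr rfl fun y _ => this y, ← Finset.mul_sum, h2, mul_zero]

theorem classInner_tilde_conj [Fintype G] (p : ℕ) (f g : G → ℂ) :
    classInner (tilde p g) f = conj (classInner (tilde p f) g) := by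
  simp only [classInner, map_mul, map_inv₀, map_natCast, map_sum, tilde]
  refine congrArg _ (Finset.sum_congr rfl fun x _ => ?_)
  split_ifs
  · simp
  · simp [Complex.conj_conj]; ring

theorem factorization_eq_of_div_unit (hM : IsPModular p M) {N k : ℕ} (hN : N ≠ 0)
    (hR : MemLocalRing M ((N : ℂ) / ((p ^ k : ℕ) : ℂ)))
    (hI : ¬ MemLocalIdeal M ((N : ℂ) / ((p ^ k : ℕ) : ℂ))) : N.factorization p = k := by
  have hpk : (p ^ k : ℕ) ≠ 0 := pow_ne_zero _ hM.1.ne_zero
  have hf : (p ^ k).factorization p = k := by rw [hM.1.factorization_pow, Finsupp.single_eq_same]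
  refine le_antisymm ?_ ?_
  · by_contra h
    exact hI (natCast_div_memIdeal hM hpk (by omega))
  · by_contra h
    have := memIdeal_mul_left hM hR (natCast_div_memIdeal (n := p ^ k) hM hN (by omega))
    rw [div_mul_div_cancel₀ (by exact_mod_cast hpk), div_self (by exact_mod_cast hN)] at this
    exact not_memIdeal_one hM this

/-- The p-part of the sum of squared degrees in a block. -/
theorem factorization_sum_sq [Fact p.Prime] (hM : IsPModular p M)
    {B : Set (IrrCharacter G)} (hB : IsPBlock M B) :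
    (∑ᶠ χ ∈ B, charDegree (χ : G → ℂ) ^ 2).factorization p =
      (Nat.card G).factorization p + minExp p B := by
  classical
  obtain ⟨c, hc, hcx⟩ := exists_blockCoeff_combination hM hB
  obtain ⟨g, hg, hgdef⟩ := exists_defect_class hM hB
  obtain ⟨ψ, hψ⟩ := block_nonempty hM hB
  set m := minExp p B with hm
  have hKm := factorization_csize_defectClass hM hB hgdef
  have hpm : (p ^ m).factorization p = m := by rw [hM.1.factorization_pow, Finsupp.single_eq_same]
  have hpm0 : ((p ^ m : ℕ) : ℂ) ≠ 0 := by exact_mod_cast pow_ne_zero m hM.1.ne_zero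
  set Z : ℂ := ∑ χ ∈ B.toFinset, c χ * ((charDegree (χ : G → ℂ) : ℂ) / ((p ^ m : ℕ) : ℂ)) with hZ
  have hdR : ∀ χ ∈ B.toFinset,
      MemLocalRing M ((charDegree (χ : G → ℂ) : ℂ) / ((p ^ m : ℕ) : ℂ)) := fun χ hχ =>
    natCast_div_memRing hM (pow_ne_zero _ hM.1.ne_zero)
      (Or.inr (hpm.le.trans (minExp_le (Set.mem_toFinset.1 hχ))))
  have hZR : MemLocalRing M Z := memRing_sum hM _ fun χ hχ => memRing_mul hM (hc χ) (hdR χ hχ)
  set t : ℂ := centralChar (ψ : G → ℂ) g⁻¹ * (((p ^ m : ℕ) : ℂ) / (csize g : ℂ)) with ht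
  have htR : MemLocalRing M t := memRing_mul hM (memRing_centralChar hM ψ _)
    (natCast_div_memRing hM (csize_ne_zero g) (Or.inr (by omega)))
  have hcong : MemLocalIdeal M (blockCoeff B g - t * Z) := by
    have hreg : ¬ p ∣ orderOf g⁻¹ := by rwa [orderOf_inv]
    have hg2 := hcx g⁻¹ hreg
    rw [inv_inv, finsum_mem_eq_toFinset_sum] at hg2
    rw [hg2, hZ, Finset.mul_sum, ← Finset.sum_sub_distrib]
    refine memIdeal_sum hM _ fun χ hχ => ?_
    have hK : (csize g : ℂ) ≠ 0 := by exact_mod_cast csize_ne_zero g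
    have : c χ * (χ : G → ℂ) g⁻¹ -
        t * (c χ * ((charDegree (χ : G → ℂ) : ℂ) / ((p ^ m : ℕ) : ℂ))) =
        c χ * ((centralChar (χ : G → ℂ) g⁻¹ - centralChar (ψ : G → ℂ) g⁻¹) *
          ((charDegree (χ : G → ℂ) : ℂ) / (csize g : ℂ))) := by
      rw [char_eq_centralChar_mul χ g⁻¹, csize_inv, ht]
      field_simp
    rw [this]
    refine memIdeal_mul_left hM (hc χ) (memIdeal_mul_right hM
      (block_congr hM hB (Set.mem_toFinset.1 hχ) hψ _) (natCast_div_memRing hM (csize_ne_zero g)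
      (Or.inr ?_)))
    rw [hKm]
    exact minExp_le (Set.mem_toFinset.1 hχ)
  have hZI : ¬ MemLocalIdeal M Z := fun h =>
    hgdef.2.1 ((memIdeal_iff_of_sub hM hcong).2 (memIdeal_mul_left hM htR h))
  have h1 := hcx 1 (by simp [(Fact.out : p.Prime).ne_one])
  rw [inv_one, finsum_mem_eq_toFinset_sum] at h1
  have hN : ((∑ᶠ χ ∈ B, charDegree (χ : G → ℂ) ^ 2 : ℕ) : ℂ) =
      (Nat.card G : ℂ) * blockCoeff B 1 := by
    rw [blockCoeff, ← mul_assoc, mul_inv_cancel₀ (by exact_mod_cast Nat.card_pos.ne'), one_mul,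
      finsum_mem_eq_toFinset_sum, finsum_mem_eq_toFinset_sum, Nat.cast_sum]
    refine Finset.sum_congr rfl fun χ _ => ?_
    rw [Nat.cast_pow, ← deg_cast, map_natCast, sq]
  have hN0 : (∑ᶠ χ ∈ B, charDegree (χ : G → ℂ) ^ 2) ≠ 0 := by
    rw [finsum_mem_eq_toFinset_sum, Ne, Finset.sum_eq_zero_iff]
    intro h
    have := h ψ (Set.mem_toFinset.2 hψ)
    exact (deg_pos ψ).ne' (pow_eq_zero_iff two_ne_zero |>.1 this)
  have hdiv : ((∑ᶠ χ ∈ B, charDegree (χ : G → ℂ) ^ 2 : ℕ) : ℂ) /
      ((p ^ ((Nat.card G).factorization p + m) : ℕ) : ℂ) = (pUnit p G)⁻¹ * Z := by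
    rw [hN, h1, hZ, Finset.mul_sum, Finset.mul_sum, Finset.sum_div]
    refine Finset.sum_congr rfl fun χ _ => ?_
    rw [pUnit, ← deg_cast, pow_add, Nat.cast_mul, inv_div]
    field_simp
  obtain ⟨hu, hu'⟩ := pUnit_spec (G := G) hM
  refine factorization_eq_of_div_unit hM hN0 ?_ ?_
  · rw [hdiv]; exact memRing_mul hM (memRing_inv hM hu hu') hZR
  · rw [hdiv]
    exact not_memIdeal_mul hM (memRing_inv hM hu hu') hZR (not_memIdeal_inv hM hu hu') hZI

end CfsgLib.BlockReg
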