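import Cfsg.Agent.Lib.BlockReg.Height
import Cfsg.Agent.Lib.Char.PowerMap
import Cfsg.Agent.Lib.Char.Virtual
import Mathlib.NumberTheory.Basic

/-!
# `p^a` times a regular restriction is a generalized character (elementary proof)
-/

set_option autoImplicit false

namespace CfsgLib.BlockReg

open Cfsg Polynomial
open scoped ComplexConjugate

universe u

variable {G : Type u} [Group G] [Finite G] {p : ℕ} {M : Ideal Cfsg.AlgInt}

omit [Finite G] in
/-- There is a maximal ideal of the algebraic integers above every prime. -/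
theorem exists_isPModular {q : ℕ} (hq : q.Prime) : ∃ M : Ideal AlgInt, IsPModular q M := by
  have hne : Ideal.span ({(q : AlgInt)} : Set AlgInt) ≠ ⊤ := by
    intro h
    rw [Ideal.span_singleton_eq_top, isUnit_iff_exists_inv] at h
    obtain ⟨b, hb⟩ := h
    have hb' : (q : ℂ) * (b : ℂ) = 1 := by
      have := congrArg Subtype.val hb
      rw [MulMemClass.coe_mul, OneMemClass.coe_one] at this
      rwa [show (((q : AlgInt)) : ℂ) = (q : ℂ) from map_natCast (Subalgebra.val AlgInt) q] at this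
    have hbq : IsIntegral ℤ (((1 : ℕ) : ℂ) / (q : ℂ)) := by
      have : ((1 : ℕ) : ℂ) / (q : ℂ) = (b : ℂ) := by
        rw [Nat.cast_one, ← hb', mul_div_assoc, mul_comm, div_mul_cancel₀]
        exact_mod_cast hq.ne_zero
      rw [this]
      exact b.2
    exact hq.ne_one (Nat.dvd_one.1 (CfsgLib.Char.dvd_of_isIntegral_natCast_div hq.ne_zero hbq))
  obtain ⟨M, hM, hle⟩ := Ideal.exists_le_maximal _ hne
  exact ⟨M, hq, hM, hle (Ideal.subset_span rfl)⟩

omit [Finite G] in
/-- Congruent to an idempotent scalar modulo the radical of `q`: high `q`-powers are congruent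
to it modulo high powers of `q`. -/
theorem pow_congr_of_mem_radical {R : Type*} [CommRing R] {q : ℕ} (hq : q.Prime) {x δ : R}
    (hδ : δ * δ = δ) (hx : x - δ ∈ (Ideal.span ({(q : R)} : Set R)).radical) :
    ∃ t : ℕ, ∀ N : ℕ, (q : R) ^ N ∣ x ^ q ^ (t + N) - δ := by
  obtain ⟨k, hk⟩ := hx
  rw [Ideal.mem_span_singleton] at hk
  obtain ⟨t, ht⟩ : ∃ t : ℕ, k ≤ q ^ t := ⟨k, (Nat.lt_pow_self hq.one_lt).le⟩
  have hδpow : ∀ m : ℕ, 0 < m → δ ^ m = δ := by
    intro m hm
    induction m with
    | zero => omega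
    | succ m ih =>
      rcases Nat.eq_zero_or_pos m with rfl | hm'
      · simp
      · rw [pow_succ, ih hm', hδ]
  have h1 : (q : R) ∣ x ^ q ^ t - δ := by
    obtain ⟨r, hr⟩ := exists_add_pow_prime_pow_eq hq δ (x - δ) t
    rw [add_sub_cancel] at hr
    rw [hr, hδpow _ (pow_pos hq.pos _),
      show δ + (x - δ) ^ q ^ t + (q : R) * δ * (x - δ) * r - δ =
        (x - δ) ^ q ^ t + (q : R) * (δ * (x - δ) * r) by ring]
    exact dvd_add (hk.trans (pow_dvd_pow _ ht)) (dvd_mul_right _ _)
  refine ⟨t, fun N => ?_⟩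
  have h2 := dvd_sub_pow_of_dvd_sub h1 N
  rw [← pow_mul, ← pow_add, hδpow _ (pow_pos hq.pos _)] at h2
  exact dvd_trans (pow_dvd_pow _ (Nat.le_succ N)) h2

/-- A character value at `g` is congruent, modulo the radical of `q` in the local ring at `q`, to
its value at `g ^ k` when `g ^ (k - 1)` is a `q`-element. -/
theorem char_sub_mem_radical {q : ℕ} {M : Ideal AlgInt} (hM : IsPModular q M)
    (ξ : IrrCharacter G) (g : G) {k j : ℕ} (hk : 0 < k) (hg : g ^ ((k - 1) * q ^ j) = 1) :
    (⟨(ξ : G → ℂ) g, memRing_char hM ξ g⟩ - ⟨(ξ : G → ℂ) (g ^ k), memRing_char hM ξ (g ^ k)⟩ :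
      localSubring hM) ∈ (Ideal.span ({(q : localSubring hM)} : Set (localSubring hM))).radical := by
  classical
  have hqp : q.Prime := hM.1
  obtain ⟨n, ρ, -, hρ⟩ := ξ.2
  obtain ⟨μ, hμ, -, -, hsum⟩ := CfsgLib.Char.exists_eigenvalues ρ g
  let ν : Fin (Module.finrank ℂ (Fin n → ℂ)) → localSubring hM := fun i =>
    ⟨μ i, memRing_of_pow_eq_one hM (orderOf_pos g) (hμ i)⟩
  set J := (Ideal.span ({(q : localSubring hM)} : Set (localSubring hM))).radical with hJ
  have hnu : ∀ i, ν i - ν i ^ k ∈ J := by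
    intro i
    set w := ν i ^ (k - 1) with hw
    have hw1 : w ^ q ^ j = 1 := by
      apply Subtype.ext
      rw [hw, ← pow_mul, SubmonoidClass.coe_pow]
      obtain ⟨c, hc⟩ := orderOf_dvd_of_pow_eq_one hg
      show μ i ^ _ = 1
      rw [hc, pow_mul, hμ, one_pow]
    have hwJ : w - 1 ∈ J := by
      obtain ⟨r, hr⟩ := exists_add_pow_prime_pow_eq hqp (w - 1) (1 : localSubring hM) j
      rw [sub_add_cancel, hw1, one_pow] at hr
      refine ⟨q ^ j, Ideal.mem_span_singleton.2 ⟨-((w - 1) * 1 * r), ?_⟩⟩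
      linear_combination -hr
    have : ν i - ν i ^ k = -(ν i) * (w - 1) := by
      rw [hw]
      conv_lhs => rw [show k = k - 1 + 1 by omega, pow_succ]
      ring
    rw [this]
    exact J.mul_mem_left _ hwJ
  have e1 : (⟨(ξ : G → ℂ) g, memRing_char hM ξ g⟩ : localSubring hM) = ∑ i, ν i := by
    apply Subtype.ext
    rw [AddSubmonoidClass.coe_finsetSum]
    have := hsum 1
    simp only [pow_one, hρ] at this
    exact this
  have e2 : (⟨(ξ : G → ℂ) (g ^ k), memRing_char hM ξ (g ^ k)⟩ : localSubring hM) =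
      ∑ i, ν i ^ k := by
    apply Subtype.ext
    rw [AddSubmonoidClass.coe_finsetSum]
    have := hsum k
    rw [hρ] at this
    simpa [ν] using this
  rw [e1, e2, ← Finset.sum_sub_distrib]
  exact Ideal.sum_mem _ fun i _ => hnu i

/-- Class functions whose coefficients on the irreducible characters are local integers. -/
def LocalVirtual [Fintype G] (M : Ideal AlgInt) (h : G → ℂ) : Prop :=
  IsClassFunction G h ∧ ∀ ψ : IrrCharacter G, MemLocalRing M (classInner h (ψ : G → ℂ))

theorem localVirtual_mul_combination [Fintype G] {q : ℕ} {M : Ideal AlgInt} (hM : IsPModular q M)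
    {h : G → ℂ} (hh : LocalVirtual M h) {c : IrrCharacter G → ℂ} (hc : ∀ ξ, MemLocalRing M (c ξ)) :
    LocalVirtual M (fun g => (∑ ξ, c ξ * (ξ : G → ℂ) g) * h g) := by
  classical
  refine ⟨fun g k => ?_, fun ψ => ?_⟩
  · simp only [hh.1 g k]
    congr 1
    exact Finset.sum_congr rfl fun ξ _ => by
      rw [char_conj_invariant ξ (k * g * k⁻¹) g (isConj_iff.2 ⟨k⁻¹, by group⟩)]
  have hexp : (fun g => (∑ ξ, c ξ * (ξ : G → ℂ) g) * h g) =
      ∑ ξ : IrrCharacter G, ∑ η : IrrCharacter G,
        (c ξ * classInner h (η : G → ℂ)) • ((ξ : G → ℂ) * (η : G → ℂ)) := by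
    funext g
    conv_lhs => rw [CfsgLib.Char.IsClassFunction.eq_sum_classInner hh.1]
    simp only [Finset.sum_apply, Pi.smul_apply, Pi.mul_apply, smul_eq_mul, Finset.sum_mul,
      Finset.mul_sum]
    rw [Finset.sum_comm]
    refine Finset.sum_congr rfl fun ξ _ => Finset.sum_congr rfl fun η _ => ?_
    ring
  rw [hexp, CfsgLib.Char.classInner_sum_left]
  refine memRing_sum hM _ fun ξ _ => ?_
  rw [CfsgLib.Char.classInner_sum_left]
  refine memRing_sum hM _ fun η _ => ?_
  rw [CfsgLib.Char.classInner_smul_left]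
  refine memRing_mul hM (memRing_mul hM (hc ξ) (hh.2 η)) ?_
  obtain ⟨m, hm⟩ := CfsgLib.Char.IsCharacter.exists_nat_classInner
    (CfsgLib.Char.IsCharacter.mul (CfsgLib.Char.IsIrrCharacter.isCharacter ξ.2)
      (CfsgLib.Char.IsIrrCharacter.isCharacter η.2)) ψ.2
  rw [hm]
  exact memRing_natCast hM m

/-- The `q`-part exponent: a power of `g` that is its `q'`-part up to a Galois twist. -/
theorem exists_regular_power {q : ℕ} (hq : q.Prime) (g : G) :
    ∃ k j : ℕ, 0 < k ∧ g ^ ((k - 1) * q ^ j) = 1 ∧ ¬ q ∣ orderOf (g ^ k) ∧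
      ∀ r : ℕ, r.Prime → r ≠ q → (r ∣ orderOf (g ^ k) ↔ r ∣ orderOf g) := by
  set o := orderOf g with ho
  have ho0 : o ≠ 0 := (orderOf_pos g).ne'
  set j := o.factorization q with hj
  set m := o / q ^ j with hm
  have hom : q ^ j * m = o := Nat.ordProj_mul_ordCompl_eq_self o q
  have hm0 : m ≠ 0 := fun h => ho0 (by rw [← hom, h, mul_zero])
  have hqm : Nat.Coprime (q ^ j) m :=
    Nat.Coprime.pow_left _ ((Nat.Prime.coprime_iff_not_dvd hq).2 (Nat.not_dvd_ordCompl hq ho0))
  set k := (q ^ j) ^ m.totient with hk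
  have hk1 : 0 < k := pow_pos (pow_pos hq.pos _) _
  have hmk : m ∣ k - 1 := (Nat.modEq_iff_dvd' hk1).1 (Nat.ModEq.pow_totient hqm).symm
  have hjk : q ^ j ∣ k := dvd_pow_self _ (Nat.totient_pos.2 (Nat.pos_of_ne_zero hm0)).ne'
  have hpow : (g ^ k) ^ m = 1 := by
    rw [← pow_mul, ← orderOf_dvd_iff_pow_eq_one, ← ho, ← hom]
    exact mul_dvd_mul hjk dvd_rfl
  have hback : o ∣ k * orderOf (g ^ k) := by
    rw [ho, orderOf_dvd_iff_pow_eq_one, pow_mul, pow_orderOf_eq_one]
  refine ⟨k, j, hk1, ?_, ?_, fun r hr hrq => ⟨fun h => h.trans (orderOf_pow_dvd k), fun h => ?_⟩⟩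
  · rw [← orderOf_dvd_iff_pow_eq_one, ← ho, ← hom, mul_comm]
    exact mul_dvd_mul hmk dvd_rfl
  · intro h
    exact Nat.not_dvd_ordCompl hq ho0 (h.trans (orderOf_dvd_of_pow_eq_one hpow))
  · refine ((hr.dvd_mul.1 (h.trans hback))).resolve_left fun h2 => hrq ?_
    rw [hk, ← pow_mul] at h2
    exact (Nat.prime_dvd_prime_iff_eq hr hq).1 (hr.dvd_of_dvd_pow h2)

/-- Away from `p`, regular inner products of irreducible characters are local integers. -/
theorem classInner_tilde_memRing_ne [Fintype G] {q : ℕ} {M : Ideal AlgInt} (hM : IsPModular q M)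
    (hpr : p.Prime) (hqp : p ≠ q) (χ ψ : IrrCharacter G) :
    MemLocalRing M (classInner (tilde p (χ : G → ℂ)) (ψ : G → ℂ)) := by
  classical
  haveI : Fact q.Prime := ⟨hM.1⟩
  set f : G → ℂ := fun g => if p ∣ orderOf g then 0 else 1 with hf
  obtain ⟨c, hc, hcx⟩ := exists_combination hM f
    (fun g h hgh => by
      obtain ⟨c, hc⟩ := isConj_iff.1 hgh
      have : orderOf h = orderOf g := by rw [← hc]; exact MulEquiv.orderOf_eq (MulAut.conj c) g
      simp only [hf, this])
    (fun g => by simp only [hf]; split_ifs; exacts [memRing_zero hM, memRing_one hM])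
  simp only [finsum_eq_sum_of_fintype] at hcx
  set F : G → ℂ := fun g => ∑ ξ, c ξ * (ξ : G → ℂ) g with hF
  have hFR : ∀ g, MemLocalRing M (F g) := fun g =>
    memRing_sum hM _ fun ξ _ => memRing_mul hM (hc ξ) (memRing_char hM ξ g)
  have hfR : ∀ g, MemLocalRing M (f g) := fun g => by
    simp only [hf]; split_ifs; exacts [memRing_zero hM, memRing_one hM]
  have hex : ∀ g : G, ∃ t : ℕ, ∀ N : ℕ, (q : localSubring hM) ^ N ∣
      (⟨F g, hFR g⟩ : localSubring hM) ^ q ^ (t + N) - ⟨f g, hfR g⟩ := by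
    intro g
    refine pow_congr_of_mem_radical hM.1 ?_ ?_
    · apply Subtype.ext
      show f g * f g = f g
      simp only [hf]
      split_ifs <;> simp
    · obtain ⟨k, j, hk, hg, hreg, hiff⟩ := exists_regular_power hM.1 g
      have hfk : f (g ^ k) = f g := by simp only [hf, hiff p hpr hqp]
      have heq : (⟨F g, hFR g⟩ - ⟨f g, hfR g⟩ : localSubring hM) =
          ∑ ξ : IrrCharacter G, (⟨c ξ, hc ξ⟩ : localSubring hM) *
            (⟨(ξ : G → ℂ) g, memRing_char hM ξ g⟩ -
              ⟨(ξ : G → ℂ) (g ^ k), memRing_char hM ξ (g ^ k)⟩) := by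
        apply Subtype.ext
        rw [AddSubmonoidClass.coe_finsetSum]
        show F g - f g = ∑ ξ, c ξ * ((ξ : G → ℂ) g - (ξ : G → ℂ) (g ^ k))
        simp only [mul_sub, Finset.sum_sub_distrib]
        rw [← hfk, hcx (g ^ k) hreg]
      rw [heq]
      exact Ideal.sum_mem _ fun ξ _ => Ideal.mul_mem_left _ _ (char_sub_mem_radical hM ξ g hk hg)
  choose t ht using hex
  set T := Finset.univ.sup t with hT
  set N := (Nat.card G).factorization q with hN
  set E := q ^ (T + N) with hE
  have hE' : ∀ g, (q : localSubring hM) ^ N ∣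
      (⟨F g, hFR g⟩ : localSubring hM) ^ E - ⟨f g, hfR g⟩ := by
    intro g
    have hle : t g ≤ T := Finset.le_sup (Finset.mem_univ g)
    have := ht g (T + N - t g)
    rw [show t g + (T + N - t g) = T + N by omega] at this
    exact dvd_trans (pow_dvd_pow _ (by omega)) this
  have hvirt : ∀ m : ℕ, LocalVirtual M (fun g => F g ^ m * (χ : G → ℂ) g) := by
    intro m
    induction m with
    | zero =>
      simp only [pow_zero, one_mul]
      exact ⟨CfsgLib.Char.IsIrrCharacter.isClassFunction χ.2, fun ψ => by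
        rw [CfsgLib.Char.classInner_irrCharacter]
        split_ifs; exacts [memRing_one hM, memRing_zero hM]⟩
    | succ m ih =>
      have := localVirtual_mul_combination hM ih hc
      simp only [pow_succ', mul_assoc]
      exact this
  have hdiff : MemLocalRing M ((Nat.card G : ℂ)⁻¹ *
      ∑ g, (f g - F g ^ E) * ((χ : G → ℂ) g * conj ((ψ : G → ℂ) g))) := by
    rw [Finset.mul_sum]
    refine memRing_sum hM _ fun g _ => ?_
    obtain ⟨d, hd⟩ := hE' g
    have hd' : F g ^ E - f g = (q : ℂ) ^ N * (d : ℂ) := by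
      have := congrArg Subtype.val hd
      simpa using this
    rw [← neg_sub, hd', ← char_inv]
    have : (Nat.card G : ℂ)⁻¹ *
        (-((q : ℂ) ^ N * (d : ℂ)) * ((χ : G → ℂ) g * (ψ : G → ℂ) g⁻¹)) =
        (((q ^ N : ℕ) : ℂ) / (Nat.card G : ℂ)) *
          (-(d : ℂ) * ((χ : G → ℂ) g * (ψ : G → ℂ) g⁻¹)) := by push_cast; ring
    rw [this]
    exact memRing_mul hM (natCast_div_memRing hM Nat.card_pos.ne'
      (Or.inr (by rw [hM.1.factorization_pow, Finsupp.single_eq_same])))
      (memRing_mul hM (memRing_neg d.2)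
        (memRing_mul hM (memRing_char hM χ g) (memRing_char hM ψ g⁻¹)))
  have hkey : classInner (tilde p (χ : G → ℂ)) (ψ : G → ℂ) =
      ((p ^ (Nat.card G).factorization p : ℕ) : ℂ) *
        (classInner (fun g => F g ^ E * (χ : G → ℂ) g) (ψ : G → ℂ) + (Nat.card G : ℂ)⁻¹ *
          ∑ g, (f g - F g ^ E) * ((χ : G → ℂ) g * conj ((ψ : G → ℂ) g))) := by
    simp only [classInner, ← mul_add, ← Finset.sum_add_distrib]
    rw [mul_left_comm]
    congr 1
    rw [Finset.mul_sum]
    refine Finset.sum_congr rfl fun g _ => ?_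
    simp only [tilde, hf]
    split_ifs <;> ring
  rw [hkey]
  exact memRing_mul hM (memRing_natCast hM _) (memRing_add hM ((hvirt E).2 ψ) hdiff)

theorem classInner_tilde_memRing [Fintype G] {q : ℕ} {M : Ideal AlgInt} (hM : IsPModular q M)
    (hpr : p.Prime) (χ ψ : IrrCharacter G) :
    MemLocalRing M (classInner (tilde p (χ : G → ℂ)) (ψ : G → ℂ)) := by
  rcases eq_or_ne p q with rfl | hne
  · rw [classInner_eq_rInner_mul]
    exact memRing_mul hM (rInner_memRing hM χ ψ) (memRing_natCast hM _)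
  · exact classInner_tilde_memRing_ne hM hpr hne χ ψ

theorem classInner_tilde_isRational [Fintype G] (χ ψ : IrrCharacter G) :
    ∃ r : ℚ, classInner (tilde p (χ : G → ℂ)) (ψ : G → ℂ) = (r : ℂ) := by
  classical
  set N := Nat.card G with hN
  have hN0 : 0 < N := Nat.card_pos
  have hζ : IsPrimitiveRoot (Complex.exp (2 * Real.pi * Complex.I / N)) N :=
    Complex.isPrimitiveRoot_exp N hN0.ne'
  set ζ := Complex.exp (2 * Real.pi * Complex.I / N) with hζdef
  have hpoly : ∀ g : G, ∃ P : ℤ[X], ∀ k : ℕ,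
      (χ : G → ℂ) (g ^ k) * (ψ : G → ℂ) ((g ^ k)⁻¹) = aeval (ζ ^ k) P := by
    intro g
    obtain ⟨P, hP⟩ := CfsgLib.CharPower.exists_poly_of_isCharacter
      (CfsgLib.Char.IsIrrCharacter.isCharacter χ.2) g hN0 (pow_card_eq_one') hζ
    obtain ⟨Q, hQ⟩ := CfsgLib.CharPower.exists_poly_of_isCharacter
      (CfsgLib.Char.IsIrrCharacter.isCharacter ψ.2) g⁻¹ hN0 (pow_card_eq_one') hζ
    exact ⟨P * Q, fun k => by rw [map_mul, ← hP, ← hQ, inv_pow]⟩
  choose P hP using hpoly
  set Ptot : ℤ[X] := ∑ g ∈ Finset.univ.filter (fun g : G => ¬ p ∣ orderOf g), P g with hPtot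
  have hval : ∀ k : ℕ, k.Coprime N → aeval (ζ ^ k) Ptot =
      ∑ g ∈ Finset.univ.filter (fun g : G => ¬ p ∣ orderOf g), (χ : G → ℂ) g * (ψ : G → ℂ) g⁻¹ := by
    intro k hk
    rw [hPtot, map_sum]
    refine Finset.sum_equiv (powCoprime (G := G) (n := k) (by simpa [hN] using hk.symm)) ?_ ?_
    · intro g
      have hco : (orderOf g).Coprime k := (hk.of_dvd_right (orderOf_dvd_natCard g)).symm
      simp [powCoprime, hco.orderOf_pow]
    · intro g _
      rw [← hP]
      rfl
  obtain ⟨r, hr⟩ := CfsgLib.CharPower.exists_rat_of_aeval_const hN0 hζ Ptot (fun η hη => by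
    haveI : NeZero N := ⟨hN0.ne'⟩
    obtain ⟨i, -, hi, rfl⟩ := hζ.isPrimitiveRoot_iff.1 hη
    have h1 := hval 1 (Nat.coprime_one_left N)
    rw [pow_one] at h1
    rw [hval i hi, h1])
  refine ⟨(p ^ (Nat.card G).factorization p : ℕ) / (Nat.card G : ℚ) * r, ?_⟩
  have h1 := hval 1 (Nat.coprime_one_left N)
  rw [pow_one, hr] at h1
  rw [classInner]
  push_cast
  rw [h1, Finset.sum_filter, Finset.mul_sum, Finset.mul_sum]
  refine Finset.sum_congr rfl fun g _ => ?_
  simp only [tilde, char_inv]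
  split_ifs
  · simp
  · push_cast; ring

/-- The inner products `[tilde χ, ψ]` are rational integers. -/
theorem exists_int_classInner_tilde [Fintype G] (hpr : p.Prime) (χ ψ : IrrCharacter G) :
    ∃ n : ℤ, classInner (tilde p (χ : G → ℂ)) (ψ : G → ℂ) = (n : ℂ) := by
  classical
  obtain ⟨r, hr⟩ := classInner_tilde_isRational (p := p) χ ψ
  set n := classInner (tilde p (χ : G → ℂ)) (ψ : G → ℂ) with hn
  have hint : IsIntegral ℤ n := by
    let I : Ideal AlgInt :=
      { carrier := {c | IsIntegral ℤ ((c : ℂ) * n)}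
        add_mem' := fun {a b} ha hb => by
          simp only [Set.mem_setOf_eq] at *
          push_cast; rw [add_mul]; exact ha.add hb
        zero_mem' := by simp [isIntegral_zero]
        smul_mem' := fun c x hx => by
          simp only [Set.mem_setOf_eq, smul_eq_mul] at *
          push_cast; rw [mul_assoc]; exact c.2.mul hx }
    have hG : (Nat.card G : AlgInt) ∈ I := by
      show IsIntegral ℤ _
      rw [show (((Nat.card G : AlgInt)) : ℂ) = (Nat.card G : ℂ) from
        map_natCast (Subalgebra.val AlgInt) _, hn, classInner, ← mul_assoc,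
        mul_inv_cancel₀ (by exact_mod_cast Nat.card_pos.ne'), one_mul]
      refine IsIntegral.sum _ fun g _ => ?_
      rw [← char_inv]
      refine IsIntegral.mul ?_ (isIntegral_char ψ _)
      unfold tilde
      split_ifs
      · exact isIntegral_zero
      · exact (isIntegral_natCast _).mul (isIntegral_char χ g)
    by_contra hcon
    have hI : I ≠ ⊤ := fun h => hcon (by
      have h1 : (1 : AlgInt) ∈ I := by rw [h]; trivial
      have h2 : IsIntegral ℤ (((1 : AlgInt) : ℂ) * n) := h1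
      simpa using h2)
    obtain ⟨M, hMmax, hle⟩ := Ideal.exists_le_maximal I hI
    have hprime : ∃ q : ℕ, q.Prime ∧ (q : AlgInt) ∈ M := by
      have hmem := hle hG
      have hne : M ≠ ⊤ := hMmax.ne_top
      by_contra hall
      push Not at hall
      have : ∀ m : ℕ, 0 < m → (m : AlgInt) ∉ M := by
        intro m
        induction m using Nat.recOnMul with
        | zero => omega
        | one => intro _ h; exact hne ((Ideal.eq_top_iff_one M).2 (by simpa using h))
        | prime q hq => intro _; exact hall q hq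
        | mul a b iha ihb =>
          intro hab h
          rw [Nat.cast_mul] at h
          rcases hMmax.isPrime.mem_or_mem h with h1 | h1
          · exact iha (Nat.pos_of_mul_pos_right hab) h1
          · exact ihb (Nat.pos_of_mul_pos_left hab) h1
      exact this _ Nat.card_pos hmem
    obtain ⟨q, hq, hqM⟩ := hprime
    have hM : IsPModular q M := ⟨hq, hMmax, hqM⟩
    obtain ⟨a, b, hb, hab⟩ := classInner_tilde_memRing hM hpr χ ψ
    apply hb
    apply hle
    show IsIntegral ℤ _
    have hb0 : (b : ℂ) ≠ 0 := fun h => hb (by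
      rw [show b = 0 from Subtype.ext h]; exact M.zero_mem)
    rw [hn, ← hab, mul_div_cancel₀ _ hb0]
    exact a.2
  rw [hr] at hint ⊢
  obtain ⟨z, hz⟩ := CfsgLib.Char.exists_int_of_isIntegral_ratCast hint
  exact ⟨z, by rw [← hz]; simp⟩

theorem exists_coeff [Fintype G] (hpr : p.Prime) (χ : IrrCharacter G) :
    ∃ n : IrrCharacter G → ℤ,
      (∀ ψ : IrrCharacter G, classInner (tilde p (χ : G → ℂ)) (ψ : G → ℂ) = (n ψ : ℂ)) ∧
      tilde p (χ : G → ℂ) = fun g => ∑ ψ, (n ψ : ℂ) * (ψ : G → ℂ) g := by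
  choose n hn using exists_int_classInner_tilde hpr χ
  refine ⟨n, hn, ?_⟩
  conv_lhs => rw [CfsgLib.Char.IsClassFunction.eq_sum_classInner
    (θ := tilde p (χ : G → ℂ)) (fun g h => tilde_congr p χ _ _ (isConj_iff.2 ⟨h⁻¹, by group⟩))]
  funext g
  simp [Finset.sum_apply, hn]

theorem isGeneralizedCharacter_int_combination [Fintype G] (n : IrrCharacter G → ℤ) :
    IsGeneralizedCharacter G (fun g => ∑ ψ, (n ψ : ℂ) * (ψ : G → ℂ) g) := by
  classical
  have h := CfsgLib.Char.IsGeneralizedCharacter.sum (G := G) Finset.univ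
    (fun ψ : IrrCharacter G => fun g => (n ψ : ℂ) * (ψ : G → ℂ) g) (fun ψ _ =>
      CfsgLib.Char.IsGeneralizedCharacter.intCast_smul
        (CfsgLib.Char.IsIrrCharacter.isGeneralizedCharacter ψ.2) (n ψ))
  convert h using 1
  funext g
  simp [Finset.sum_apply]

end CfsgLib.BlockReg
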