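import Cfsg.Agent.Lib.BlockReg.Basic
import Cfsg.Agent.Lib.Blocks.Local
import Cfsg.Agent.Lib.Blocks.GroupTrace
import Cfsg.Agent.Lib.Char.Complete
import Cfsg.Agent.Lib.Char.Linear

/-!
# The block idempotent: exact construction with local coefficients, and block orthogonality
-/

set_option autoImplicit false

namespace CfsgLib.BlockReg

open Cfsg
open scoped ComplexConjugate

universe u

variable {G : Type u} [Group G] [Finite G] {p : ℕ} {M : Ideal Cfsg.AlgInt}

/-- The central character extended linearly to functions on `G`. -/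
noncomputable def omegaFun [Fintype G] (ξ : IrrCharacter G) (f : G → ℂ) : ℂ :=
  (∑ g, f g * (ξ : G → ℂ) g) / (ξ : G → ℂ) 1

/-- A system of scalars is realised by a class function with values in the local ring. -/
def Realised [Fintype G] (M : Ideal AlgInt) (w : IrrCharacter G → ℂ) : Prop :=
  ∃ f : G → ℂ, (∀ g h, f (h * g * h⁻¹) = f g) ∧ (∀ g, MemLocalRing M (f g)) ∧
    ∀ ξ, omegaFun ξ f = w ξ

theorem omegaFun_conv [Fintype G] (ξ : IrrCharacter G) (f h : G → ℂ)
    (hf : ∀ g k, f (k * g * k⁻¹) = f g) :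
    omegaFun ξ (fun g => ∑ y, f y * h (y⁻¹ * g)) = omegaFun ξ f * omegaFun ξ h := by
  obtain ⟨n, ρ, hirr, hρ⟩ := ξ.2
  haveI := hirr
  obtain ⟨c, hc, hct⟩ := CfsgLib.Char.exists_scalar_sum_smul ρ f hf
  have h1 : (ξ : G → ℂ) 1 = (Module.finrank ℂ (Fin n → ℂ) : ℂ) := by rw [← hρ, ρ.char_one]
  have hne := deg_ne_zero ξ
  have hcv : omegaFun ξ f = c := by
    rw [omegaFun, ← hρ, ← hct, hρ, h1, mul_div_cancel_right₀ c (h1 ▸ hne)]
  have hmain : ∑ g, (∑ y, f y * h (y⁻¹ * g)) * ρ.character g = c * ∑ z, h z * ρ.character z := by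
    calc ∑ g, (∑ y, f y * h (y⁻¹ * g)) * ρ.character g
        = ∑ y, ∑ z, f y * h z * ρ.character (y * z) := by
          simp only [Finset.sum_mul]
          rw [Finset.sum_comm]
          refine Finset.sum_congr rfl fun y _ => ?_
          exact Fintype.sum_equiv (Equiv.mulLeft y⁻¹) _ _ fun g => by simp
      _ = LinearMap.trace ℂ (Fin n → ℂ) ((∑ y, f y • ρ y) * ∑ z, h z • ρ z) := by
          simp only [Finset.sum_mul, Finset.mul_sum, map_sum]
          rw [Finset.sum_comm]
          refine Finset.sum_congr rfl fun y _ => Finset.sum_congr rfl fun z _ => ?_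
          rw [smul_mul_smul_comm, map_smul, ← map_mul ρ, smul_eq_mul]
          rfl
      _ = c * ∑ z, h z * ρ.character z := by
          rw [hc, smul_one_mul, map_smul, map_sum, smul_eq_mul]
          refine congrArg _ (Finset.sum_congr rfl fun z _ => ?_)
          rw [map_smul, smul_eq_mul]
          rfl
  rw [hcv, omegaFun, omegaFun, ← hρ, hmain, mul_div_assoc]

theorem realised_mul [Fintype G] (hM : IsPModular p M) {v w : IrrCharacter G → ℂ}
    (hv : Realised M v) (hw : Realised M w) : Realised M (v * w) := by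
  obtain ⟨f, hf, hfR, hfv⟩ := hv
  obtain ⟨h, hh, hhR, hhw⟩ := hw
  refine ⟨fun g => ∑ y, f y * h (y⁻¹ * g), fun g k => ?_, fun g => memRing_sum hM _ fun y _ =>
    memRing_mul hM (hfR y) (hhR _), fun ξ => ?_⟩
  · refine Fintype.sum_equiv (MulAut.conj k⁻¹).toEquiv _ _ fun y => ?_
    have h1 : f ((MulAut.conj k⁻¹) y) = f y := by
      simp only [MulAut.conj_apply, inv_inv]
      simpa using hf y k⁻¹
    have h2 : h (((MulAut.conj k⁻¹) y)⁻¹ * g) = h (y⁻¹ * (k * g * k⁻¹)) := by
      rw [← hh (((MulAut.conj k⁻¹) y)⁻¹ * g) k]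
      congr 1
      simp only [MulAut.conj_apply, inv_inv, mul_inv_rev]
      group
    simp only [MulEquiv.toEquiv_eq_coe, EquivLike.coe_coe, h1, h2]
  · rw [omegaFun_conv ξ f h hf, hfv, hhw]; rfl

theorem realised_add [Fintype G] (hM : IsPModular p M) {v w : IrrCharacter G → ℂ}
    (hv : Realised M v) (hw : Realised M w) : Realised M (v + w) := by
  obtain ⟨f, hf, hfR, hfv⟩ := hv
  obtain ⟨h, hh, hhR, hhw⟩ := hw
  refine ⟨f + h, fun g k => by simp [hf g k, hh g k],
    fun g => memRing_add hM (hfR g) (hhR g), fun ξ => ?_⟩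
  simp only [Pi.add_apply, ← hfv, ← hhw, omegaFun, add_mul, Finset.sum_add_distrib, add_div]

theorem realised_smul [Fintype G] (hM : IsPModular p M) {c : ℂ} (hc : MemLocalRing M c)
    {v : IrrCharacter G → ℂ} (hv : Realised M v) : Realised M (fun ξ => c * v ξ) := by
  obtain ⟨f, hf, hfR, hfv⟩ := hv
  refine ⟨fun g => c * f g, fun g k => by simp [hf g k],
    fun g => memRing_mul hM hc (hfR g), fun ξ => ?_⟩
  simp only [omegaFun, mul_assoc, ← Finset.mul_sum, mul_div_assoc]
  rw [show (∑ g, f g * (ξ : G → ℂ) g) / (ξ : G → ℂ) 1 = v ξ from hfv ξ]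

theorem realised_one [Fintype G] (hM : IsPModular p M) :
    Realised (G := G) M (fun _ => 1) := by
  classical
  refine ⟨fun g => if g = 1 then 1 else 0, fun g k => ?_, fun g => ?_, fun ξ => ?_⟩
  · simp [conj_eq_one_iff]
  · dsimp only
    split_ifs
    · exact memRing_one hM
    · exact memRing_zero hM
  · simp [omegaFun, deg_ne_zero ξ]

theorem realised_sub_smul [Fintype G] (hM : IsPModular p M) {c : ℂ} (hc : MemLocalRing M c)
    {v : IrrCharacter G → ℂ} (hv : Realised M v) : Realised M (fun ξ => v ξ - c) := by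
  have := realised_add hM hv (realised_smul hM (memRing_neg hc) (realised_one hM))
  convert this using 2 with ξ
  simp [sub_eq_add_neg]

theorem realised_prod [Fintype G] (hM : IsPModular p M) {ι : Type*} (s : Finset ι)
    (w : ι → IrrCharacter G → ℂ) (hw : ∀ i ∈ s, Realised M (w i)) :
    Realised M (∏ i ∈ s, w i) := by
  refine Finset.prod_induction w (Realised M) (fun _ _ => realised_mul hM) ?_ hw
  exact realised_one hM

theorem realised_centralChar [Fintype G] (hM : IsPModular p M) (g : G) :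
    Realised M (fun ξ : IrrCharacter G => centralChar (ξ : G → ℂ) g) := by
  classical
  refine ⟨fun x => if IsConj g x then 1 else 0, fun x k => ?_, fun x => ?_, fun ξ => ?_⟩
  · have : IsConj x (k * x * k⁻¹) := isConj_iff.2 ⟨k, rfl⟩
    exact if_congr ⟨fun h => h.trans this.symm, fun h => h.trans this⟩ rfl rfl
  · dsimp only
    split_ifs
    · exact memRing_one hM
    · exact memRing_zero hM
  · dsimp only
    rw [omegaFun, centralChar_eq]
    congr 1
    simp only [ite_mul, one_mul, zero_mul, ← Finset.sum_filter]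
    rw [Finset.sum_congr rfl fun x hx => (char_conj_invariant ξ g x (Finset.mem_filter.1 hx).2).symm,
      Finset.sum_const, nsmul_eq_mul, CfsgLib.Char.card_conjClass]
    rfl

theorem realised_indicator [Fintype G] (hM : IsPModular p M) {B : Set (IrrCharacter G)}
    (hB : IsPBlock M B) [DecidablePred (· ∈ B)] :
    Realised M (fun ξ => if ξ ∈ B then (1 : ℂ) else 0) := by
  classical
  obtain ⟨χ, hχ⟩ := block_nonempty hM hB
  have hsep : ∀ η : IrrCharacter G, η ∉ B → ∃ g : G, ∀ ξ ∈ B,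
      ¬ MemLocalIdeal M (centralChar (ξ : G → ℂ) g - centralChar (η : G → ℂ) g) := by
    intro η hη
    by_contra hcon
    push Not at hcon
    refine hη (mem_of_sameBlock hM hB hχ fun g => ?_)
    obtain ⟨ξ, hξ, hξg⟩ := hcon g
    simpa using memIdeal_add hM (block_congr hM hB hχ hξ g) hξg
  choose g hg using hsep
  let w : IrrCharacter G → IrrCharacter G → ℂ := fun η =>
    if h : η ∈ B then 1 else fun ξ =>
      centralChar (ξ : G → ℂ) (g η h) - centralChar (η : G → ℂ) (g η h)
  set z : IrrCharacter G → ℂ := ∏ η, w η with hz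
  have hzR : Realised M z := by
    refine realised_prod hM _ w fun η _ => ?_
    simp only [w]
    split_ifs
    · exact realised_one hM
    · exact realised_sub_smul hM (memRing_centralChar hM η _) (realised_centralChar hM _)
  have hz0 : ∀ ξ, ξ ∉ B → z ξ = 0 := by
    intro ξ hξ
    rw [hz, Finset.prod_apply]
    exact Finset.prod_eq_zero (Finset.mem_univ ξ) (by simp [w, hξ])
  have hz1 : ∀ ξ ∈ B, MemLocalRing M (z ξ) ∧ ¬ MemLocalIdeal M (z ξ) := by
    intro ξ hξ
    rw [hz, Finset.prod_apply]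
    refine Finset.prod_induction _ (fun x => MemLocalRing M x ∧ ¬ MemLocalIdeal M x)
      (fun a b ha hb => ⟨memRing_mul hM ha.1 hb.1, not_memIdeal_mul hM ha.1 hb.1 ha.2 hb.2⟩)
      ⟨memRing_one hM, not_memIdeal_one hM⟩ fun η _ => ?_
    simp only [w]
    by_cases h : η ∈ B
    · simp only [dif_pos h, Pi.one_apply]
      exact ⟨memRing_one hM, not_memIdeal_one hM⟩
    · simp only [dif_neg h]
      exact ⟨memRing_sub hM (memRing_centralChar hM ξ _) (memRing_centralChar hM η _),
        hg η h ξ hξ⟩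
  have hprod : Realised M (∏ ξ₀ ∈ B.toFinset, fun ξ => 1 + (-(z ξ₀)⁻¹) * z ξ) :=
    realised_prod hM _ _ fun ξ₀ hξ₀ => realised_add hM (realised_one hM) (realised_smul hM
      (memRing_neg (memRing_inv hM (hz1 ξ₀ (Set.mem_toFinset.1 hξ₀)).1
        (hz1 ξ₀ (Set.mem_toFinset.1 hξ₀)).2)) hzR)
  have := realised_add hM (realised_one hM) (realised_smul hM (memRing_neg (memRing_one hM)) hprod)
  convert this using 2 with ξ
  simp only [Pi.add_apply, Finset.prod_apply]
  by_cases hξ : ξ ∈ B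
  · rw [if_pos hξ, Finset.prod_eq_zero (Set.mem_toFinset.2 hξ)]
    · simp
    · rw [neg_mul, inv_mul_cancel₀ (ne_zero_of_not_memIdeal hM (hz1 ξ hξ).2)]
      ring
  · rw [if_neg hξ, Finset.prod_eq_one]
    · simp
    · intro ξ₀ _
      simp [hz0 ξ hξ]

/-- A class function is determined by its central character values. -/
theorem eq_of_omegaFun_eq [Fintype G] {f h : G → ℂ} (hf : ∀ g k, f (k * g * k⁻¹) = f g)
    (hh : ∀ g k, h (k * g * k⁻¹) = h g) (heq : ∀ ξ, omegaFun ξ f = omegaFun ξ h) : f = h := by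
  have key : (fun g => f g⁻¹ - h g⁻¹) = 0 := by
    apply CfsgLib.Char.eq_zero_of_forall_classInner_eq_zero
    · intro g k
      show f (k * g * k⁻¹)⁻¹ - h (k * g * k⁻¹)⁻¹ = _
      rw [show (k * g * k⁻¹)⁻¹ = k * g⁻¹ * k⁻¹ by group, hf, hh]
    · intro ξ' hξ'
      set ξ : IrrCharacter G := ⟨ξ', hξ'⟩ with hξdef
      show classInner (fun g => f g⁻¹ - h g⁻¹) (ξ : G → ℂ) = 0
      have h1 := heq ξ
      simp only [omegaFun] at h1
      rw [div_left_inj' (deg_ne_zero ξ)] at h1
      rw [classInner]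
      refine mul_eq_zero_of_right _ ?_
      rw [← sub_eq_zero.2 h1, ← Finset.sum_sub_distrib]
      refine Fintype.sum_equiv (Equiv.inv G) _ _ fun g => ?_
      rw [Equiv.inv_apply, char_inv]
      ring
  funext g
  simpa [sub_eq_zero] using congrFun key g⁻¹

theorem omegaFun_blockCoeff [Fintype G] (B : Set (IrrCharacter G)) [DecidablePred (· ∈ B)]
    (ξ : IrrCharacter G) :
    omegaFun ξ (blockCoeff B) = if ξ ∈ B then (1 : ℂ) else 0 := by
  classical
  have : ∑ g, blockCoeff B g * (ξ : G → ℂ) g =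
      ∑ χ ∈ B.toFinset, (χ : G → ℂ) 1 * classInner (ξ : G → ℂ) (χ : G → ℂ) := by
    simp only [blockCoeff, finsum_mem_eq_toFinset_sum, classInner, Finset.mul_sum, Finset.sum_mul]
    rw [Finset.sum_comm]
    exact Finset.sum_congr rfl fun χ _ => Finset.sum_congr rfl fun g _ => by ring
  rw [omegaFun, this]
  simp only [CfsgLib.Char.classInner_irrCharacter, mul_ite, mul_one, mul_zero, Finset.sum_ite_eq,
    Set.mem_toFinset]
  split_ifs with h
  · exact div_self (deg_ne_zero ξ)
  · exact zero_div _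

theorem blockCoeff_conj_invariant (B : Set (IrrCharacter G)) (g k : G) :
    blockCoeff B (k * g * k⁻¹) = blockCoeff B g := by
  unfold blockCoeff
  congr 1
  exact finsum_mem_congr rfl fun χ _ => by
    rw [char_conj_invariant χ (k * g * k⁻¹) g (isConj_iff.2 ⟨k⁻¹, by group⟩)]

/-- Osima: the block idempotent has coefficients in the local ring. -/
theorem memRing_blockCoeff (hM : IsPModular p M) {B : Set (IrrCharacter G)} (hB : IsPBlock M B)
    (g : G) : MemLocalRing M (blockCoeff B g) := by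
  classical
  haveI := Fintype.ofFinite G
  obtain ⟨f, hf, hfR, hfw⟩ := realised_indicator hM hB
  rw [← eq_of_omegaFun_eq hf (blockCoeff_conj_invariant B)
    (fun ξ => by rw [hfw, omegaFun_blockCoeff])]
  exact hfR g

theorem blockCoeff_conv [Fintype G] (B : Set (IrrCharacter G)) (g : G) :
    ∑ y, blockCoeff B y * blockCoeff B (y⁻¹ * g) = blockCoeff B g := by
  classical
  revert g
  rw [← funext_iff]
  refine eq_of_omegaFun_eq (fun g k => ?_) (blockCoeff_conj_invariant B) fun ξ => ?_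
  · refine Fintype.sum_equiv (MulAut.conj k⁻¹).toEquiv _ _ fun y => ?_
    simp only [MulEquiv.toEquiv_eq_coe, EquivLike.coe_coe, MulAut.conj_apply, inv_inv]
    have h1 := blockCoeff_conj_invariant B y k⁻¹
    rw [inv_inv] at h1
    rw [h1, ← blockCoeff_conj_invariant B ((k⁻¹ * y * k)⁻¹ * g) k]
    congr 2
    group
  · rw [omegaFun_conv ξ _ _ (blockCoeff_conj_invariant B), omegaFun_blockCoeff]
    split_ifs <;> simp

theorem sum_char_mul_conj [Fintype G] (ξ : IrrCharacter G) (a b : G) :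
    ∑ t, (ξ : G → ℂ) (a * (t⁻¹ * b * t)) =
      (Nat.card G : ℂ) * (ξ : G → ℂ) a * (ξ : G → ℂ) b / (ξ : G → ℂ) 1 := by
  obtain ⟨n, ρ, hirr, hρ⟩ := ξ.2
  haveI := hirr
  set T : (Fin n → ℂ) →ₗ[ℂ] (Fin n → ℂ) := ∑ t, ρ (t⁻¹ * b * t) with hT
  have hcomm : ∀ g, T * ρ g = ρ g * T := by
    intro g
    rw [hT, Finset.sum_mul, Finset.mul_sum]
    refine Fintype.sum_equiv (Equiv.mulRight g) _ _ fun t => ?_
    simp only [Equiv.coe_mulRight, ← map_mul]
    congr 1
    group
  obtain ⟨c, hc⟩ := CfsgLib.Char.exists_scalar_of_commute ρ T hcomm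
  have hb : LinearMap.trace ℂ (Fin n → ℂ) T = (Nat.card G : ℂ) * ρ.character b := by
    have hcl : ∀ t, ρ.character (t⁻¹ * b * t) = ρ.character b := fun t => by
      rw [hρ]; exact char_conj_invariant ξ _ _ (isConj_iff.2 ⟨t, by group⟩)
    rw [hT, map_sum]
    show ∑ t, ρ.character (t⁻¹ * b * t) = _
    rw [Finset.sum_congr rfl fun t _ => hcl t, Finset.sum_const, Finset.card_univ,
      Nat.card_eq_fintype_card, nsmul_eq_mul]
  have hl : ∑ t, ρ.character (a * (t⁻¹ * b * t)) = LinearMap.trace ℂ (Fin n → ℂ) (ρ a * T) := by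
    rw [hT, Finset.mul_sum, map_sum]
    exact Finset.sum_congr rfl fun t _ => congrArg _ (map_mul ρ _ _)
  have h1 : (ξ : G → ℂ) 1 = (Module.finrank ℂ (Fin n → ℂ) : ℂ) := by rw [← hρ, ρ.char_one]
  rw [hc, map_smul, LinearMap.trace_one, smul_eq_mul] at hb
  rw [eq_div_iff (deg_ne_zero ξ), h1, ← hρ, hl, hc, mul_smul_comm, mul_one, map_smul, smul_eq_mul]
  show c * ρ.character a * _ = _
  linear_combination ρ.character a * hb

/-- Weak block orthogonality. -/
theorem block_orthogonality [Fact p.Prime] (hM : IsPModular p M) {B : Set (IrrCharacter G)}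
    (hB : IsPBlock M B) (x y : G) (hx : ¬ p ∣ orderOf x) (hy : p ∣ orderOf y) :
    ∑ᶠ χ ∈ B, (χ : G → ℂ) x * conj ((χ : G → ℂ) y) = 0 := by
  classical
  haveI := Fintype.ofFinite G
  haveI hmax : M.IsMaximal := hM.2.1
  let R := CfsgLib.Blocks.locRing M
  let e : G → R := fun g => ⟨blockCoeff B g, memRing_blockCoeff hM hB g⟩
  have hpp : p.Prime := Fact.out
  obtain ⟨η₀, hη₀⟩ : ∃ η₀ : ℂ, IsPrimitiveRoot η₀ p :=
    ⟨_, Complex.isPrimitiveRoot_exp p hpp.ne_zero⟩
  let η : R := ⟨η₀, memRing_of_pow_eq_one hM hpp.pos hη₀.pow_eq_one⟩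
  have hη : η ^ p = 1 := Subtype.ext (by simpa using hη₀.pow_eq_one)
  have hη1 : η ≠ 1 := fun h => hη₀.ne_one hpp.one_lt (congrArg Subtype.val h)
  have hηf : CfsgLib.Blocks.red M η = 1 :=
    CfsgLib.Blocks.red_eq_one_of_pow_prime_pow (k := 1) hpp hM.2.2 (by rw [pow_one]; exact hη)
  have key := CfsgLib.Blocks.sum_conj_coeff_eq_zero (CfsgLib.Blocks.red M)
    (fun r => CfsgLib.Blocks.isUnit_of_red_ne_zero) hpp hη hη1 hηf e
    (fun g => Subtype.ext (by
      rw [AddSubmonoidClass.coe_finsetSum]; exact blockCoeff_conv B g)) x y⁻¹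
    (fun g => Subtype.ext (by
      have h1 := blockCoeff_conj_invariant B g x⁻¹
      rw [inv_inv] at h1
      exact h1))
    (fun z w hz hw hc => by
      exfalso
      have hz1 : z = 1 := CfsgLib.Blocks.IsPPart.unique hpp hz
        (CfsgLib.Blocks.isPPart_one_of_regular hx)
      obtain ⟨c, hc'⟩ := isConj_iff.1 hc
      rw [hz1, inv_one] at hc'
      have hw1 : w = 1 := by
        have := congrArg (fun v => c⁻¹ * v * c) hc'
        simpa [mul_assoc] using this
      have := (CfsgLib.Blocks.not_dvd_orderOf_iff hpp hw).2 hw1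
      rw [orderOf_inv] at this
      exact this hy)
  have h2 := congrArg Subtype.val key
  rw [AddSubmonoidClass.coe_finsetSum, ZeroMemClass.coe_zero] at h2
  have h3 : ∀ t, ((e (x⁻¹ * t⁻¹ * y⁻¹⁻¹ * t) : R) : ℂ) =
      (Nat.card G : ℂ)⁻¹ * ∑ χ ∈ B.toFinset,
        (χ : G → ℂ) 1 * conj ((χ : G → ℂ) (x⁻¹ * (t⁻¹ * y * t))) := by
    intro t
    show blockCoeff B _ = _
    rw [blockCoeff, finsum_mem_eq_toFinset_sum]
    simp only [inv_inv, mul_assoc]
  rw [Finset.sum_congr rfl fun t _ => h3 t, ← Finset.mul_sum, Finset.sum_comm] at h2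
  rw [finsum_mem_eq_toFinset_sum]
  have h0 : (Nat.card G : ℂ)⁻¹ ≠ 0 := inv_ne_zero (by exact_mod_cast Nat.card_pos.ne')
  rw [← (mul_eq_zero.1 h2).resolve_left h0]
  have hG : (Nat.card G : ℂ) ≠ 0 := by exact_mod_cast Nat.card_pos.ne'
  have : ∀ χ : IrrCharacter G,
      ∑ t, (χ : G → ℂ) 1 * conj ((χ : G → ℂ) (x⁻¹ * (t⁻¹ * y * t))) =
        (Nat.card G : ℂ) * ((χ : G → ℂ) x * conj ((χ : G → ℂ) y)) := by
    intro χ
    rw [← Finset.mul_sum, ← map_sum, sum_char_mul_conj]
    simp only [map_div₀, map_mul, map_natCast, char_inv, Complex.conj_conj]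
    rw [show conj ((χ : G → ℂ) 1) = (χ : G → ℂ) 1 by rw [← char_inv, inv_one]]
    have := deg_ne_zero χ
    field_simp
  rw [Finset.sum_congr rfl fun χ _ => this χ, ← Finset.mul_sum] at h2 ⊢
  have h5 := (mul_eq_zero.1 ((mul_eq_zero.1 h2).resolve_left h0)).resolve_left hG
  rw [h5, mul_zero]

end CfsgLib.BlockReg
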