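import Cfsg.Agent.Lib.BlockReg.Integral

/-!
# The Brauer-Feit bound on the size of a block and the bound on heights
-/

set_option autoImplicit false

namespace CfsgLib.BlockReg

open Cfsg
open scoped ComplexConjugate

universe u

variable {G : Type u} [Group G] [Finite G] {p : ℕ} {M : Ideal Cfsg.AlgInt}

theorem memIdeal_intCast_div (hM : IsPModular p M) (n : ℤ) (b : ℕ) :
    (((p ^ b : ℕ) : ℤ) ∣ n ↔ MemLocalRing M ((n : ℂ) / ((p ^ b : ℕ) : ℂ))) ∧
    (((p ^ (b + 1) : ℕ) : ℤ) ∣ n ↔ MemLocalIdeal M ((n : ℂ) / ((p ^ b : ℕ) : ℂ))) := by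
  have hp0 : ∀ k, (p ^ k : ℕ) ≠ 0 := fun k => pow_ne_zero _ hM.1.ne_zero
  have hfac : ∀ k, (p ^ k).factorization p = k := fun k => by
    rw [hM.1.factorization_pow, Finsupp.single_eq_same]
  have h1 : ((p ^ b : ℕ) : ℤ) ∣ n ↔ MemLocalRing M ((n : ℂ) / ((p ^ b : ℕ) : ℂ)) := by
    constructor
    · rintro ⟨c, rfl⟩
      push_cast
      rw [mul_div_cancel_left₀ _ (pow_ne_zero _ (by exact_mod_cast hM.1.ne_zero))]
      exact memRing_intCast hM c
    · intro h
      rw [Int.natCast_dvd]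
      rcases eq_or_ne n.natAbs 0 with h0 | h0
      · rw [h0]; exact dvd_zero _
      by_contra hnd
      have hlt : n.natAbs.factorization p < b := by
        by_contra hge
        exact hnd ((Nat.pow_dvd_pow p (not_lt.1 hge)).trans (Nat.ordProj_dvd _ _))
      have hI := natCast_div_memIdeal (n := p ^ b) hM h0 (by rw [hfac]; exact hlt)
      have habs : MemLocalRing M ((n.natAbs : ℂ) / ((p ^ b : ℕ) : ℂ)) := by
        rcases Int.natAbs_eq n with he | he <;> rw [he] at h
        · simpa using h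
        · push_cast at h
          rw [neg_div] at h
          simpa using memRing_neg h
      have := memIdeal_mul_left hM habs hI
      rw [div_mul_div_cancel₀ (by exact_mod_cast hp0 b), div_self (by exact_mod_cast h0)] at this
      exact not_memIdeal_one hM this
  refine ⟨h1, ?_, ?_⟩
  · rintro ⟨c, rfl⟩
    have : (((p ^ (b + 1) : ℕ) * c : ℤ) : ℂ) / ((p ^ b : ℕ) : ℂ) = (p : ℂ) * (c : ℂ) := by
      have : ((p : ℂ)) ^ b ≠ 0 := pow_ne_zero _ (by exact_mod_cast hM.1.ne_zero)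
      push_cast
      field_simp
      ring
    rw [this]
    exact memIdeal_mul_right hM ((memIdeal_natCast_iff hM p).2 dvd_rfl) (memRing_intCast hM c)
  · intro h
    obtain ⟨c, rfl⟩ := h1.2 (memIdeal_memRing h)
    push_cast at h
    rw [mul_div_cancel_left₀ _ (pow_ne_zero _ (by exact_mod_cast hM.1.ne_zero)),
      memIdeal_intCast_iff hM] at h
    push_cast
    rw [pow_succ]
    exact mul_dvd_mul_left _ h

/-- The regular inner products of a character of degree with `p`-part `p^b` are multiples of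
`p^b`, with the further facts read off from `rInner`. -/
theorem dvd_coeff_iff [Fintype G] (hM : IsPModular p M) (χ ψ : IrrCharacter G) (n : ℤ)
    (hn : classInner (tilde p (χ : G → ℂ)) (ψ : G → ℂ) = (n : ℂ)) :
    ((p ^ (charDegree (χ : G → ℂ)).factorization p : ℕ) : ℤ) ∣ n ∧
    (((p ^ ((charDegree (χ : G → ℂ)).factorization p + 1) : ℕ) : ℤ) ∣ n ↔
      MemLocalIdeal M (rInner p (ψ : G → ℂ) (χ : G → ℂ))) := by
  set b := (charDegree (χ : G → ℂ)).factorization p with hb
  have hsw : (n : ℂ) = rInner p (ψ : G → ℂ) (χ : G → ℂ) * (charDegree (χ : G → ℂ) : ℂ) := by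
    have h := classInner_tilde_conj p (χ : G → ℂ) (ψ : G → ℂ)
    rw [hn, map_intCast, classInner_eq_rInner_mul] at h
    exact h.symm
  set u : ℂ := (charDegree (χ : G → ℂ) : ℂ) / ((p ^ b : ℕ) : ℂ) with hu
  have hu' : MemLocalRing M u ∧ ¬ MemLocalIdeal M u :=
    natCast_div_unit hM (deg_pos χ).ne' (pow_ne_zero _ hM.1.ne_zero)
      (by rw [hM.1.factorization_pow, Finsupp.single_eq_same])
  have hq : (n : ℂ) / ((p ^ b : ℕ) : ℂ) = rInner p (ψ : G → ℂ) (χ : G → ℂ) * u := by
    rw [hsw, hu, mul_div_assoc]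
  have hr := rInner_memRing (p := p) hM ψ χ
  refine ⟨(memIdeal_intCast_div hM n b).1.2 (hq ▸ memRing_mul hM hr hu'.1), ?_⟩
  rw [(memIdeal_intCast_div hM n b).2, hq]
  refine ⟨fun h => ?_, fun h => memIdeal_mul_right hM h hu'.1⟩
  by_contra hc
  exact not_memIdeal_mul hM hr hu'.1 hc hu'.2 h

theorem coeff_self_pos [Fintype G] (hp : p.Prime) (χ : IrrCharacter G) (n : ℤ)
    (hn : classInner (tilde p (χ : G → ℂ)) (χ : G → ℂ) = (n : ℂ)) : 0 < n := by
  have hre : classInner (tilde p (χ : G → ℂ)) (χ : G → ℂ) =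
      (((Nat.card G : ℝ)⁻¹ * ∑ g : G, if p ∣ orderOf g then 0 else
        ((p ^ (Nat.card G).factorization p : ℕ) : ℝ) * Complex.normSq ((χ : G → ℂ) g) : ℝ) : ℂ) := by
    rw [classInner, Complex.ofReal_mul, Complex.ofReal_inv, Complex.ofReal_natCast,
      Complex.ofReal_sum]
    refine congrArg _ (Finset.sum_congr rfl fun g _ => ?_)
    unfold tilde
    split_ifs
    · simp
    · rw [Complex.ofReal_mul, Complex.normSq_eq_conj_mul_self, Complex.ofReal_natCast]
      ring
  rw [hn, ← Complex.ofReal_intCast, Complex.ofReal_inj] at hre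
  have hpos : (0 : ℝ) < (n : ℝ) := by
    rw [hre]
    refine mul_pos (inv_pos.2 (by exact_mod_cast Nat.card_pos))
      (Finset.sum_pos' (fun g _ => ?_) ⟨1, Finset.mem_univ _, ?_⟩)
    · split_ifs
      · exact le_rfl
      · exact mul_nonneg (Nat.cast_nonneg _) (Complex.normSq_nonneg _)
    · rw [if_neg (by rw [orderOf_one, Nat.dvd_one]; exact hp.ne_one)]
      exact mul_pos (by exact_mod_cast pow_pos hp.pos _) (Complex.normSq_pos.2 (deg_ne_zero χ))
  exact_mod_cast hpos

theorem coeff_sum_sq [Fintype G] (hp : p.Prime) (χ : IrrCharacter G) (n : IrrCharacter G → ℤ)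
    (hn : ∀ ψ : IrrCharacter G, classInner (tilde p (χ : G → ℂ)) (ψ : G → ℂ) = (n ψ : ℂ)) :
    ∑ ψ, n ψ ^ 2 = ((p ^ (Nat.card G).factorization p : ℕ) : ℤ) * n χ := by
  classical
  obtain ⟨m, hm, hexp⟩ := exists_coeff hp χ
  have hmn : m = n := funext fun ψ => by exact_mod_cast (hm ψ).symm.trans (hn ψ)
  subst hmn
  have h1 : classInner (tilde p (χ : G → ℂ)) (tilde p (χ : G → ℂ)) =
      ∑ ψ, ((m ψ : ℂ)) * conj (m ψ : ℂ) := by
    have h' : tilde p (χ : G → ℂ) = ∑ ψ : IrrCharacter G, (m ψ : ℂ) • (ψ : G → ℂ) := by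
      rw [hexp]; funext g; simp [Finset.sum_apply]
    conv_lhs => rw [h']
    rw [CfsgLib.Char.classInner_sum_smul_sum_smul]
  have h2 : classInner (tilde p (χ : G → ℂ)) (tilde p (χ : G → ℂ)) =
      ((p ^ (Nat.card G).factorization p : ℕ) : ℂ) *
        classInner (tilde p (χ : G → ℂ)) (χ : G → ℂ) := by
    simp only [classInner]
    rw [Finset.mul_sum, Finset.mul_sum, Finset.mul_sum]
    refine Finset.sum_congr rfl fun g _ => ?_
    unfold tilde
    split_ifs
    · simp
    · rw [map_mul, map_natCast]; ring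
  rw [h2, hn χ] at h1
  simp only [map_intCast] at h1
  have : (((p ^ (Nat.card G).factorization p : ℕ) : ℤ) * m χ) = ∑ ψ, m ψ * m ψ := by
    exact_mod_cast h1
  rw [this]
  exact Finset.sum_congr rfl fun ψ _ => sq (m ψ)

/-- In a block of defect `d`, a character of positive height `h` has `h + 2 ≤ d`. -/
theorem height_add_two_le [Fact p.Prime] (hM : IsPModular p M) {B : Set (IrrCharacter G)}
    (hB : IsPBlock M B) {χ : IrrCharacter G} (hχ : χ ∈ B)
    (hh : minExp p B < (charDegree (χ : G → ℂ)).factorization p) :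
    (charDegree (χ : G → ℂ)).factorization p + 2 ≤ (Nat.card G).factorization p := by
  classical
  haveI := Fintype.ofFinite G
  have hpr : p.Prime := Fact.out
  set a := (Nat.card G).factorization p with ha
  set b := (charDegree (χ : G → ℂ)).factorization p with hb
  obtain ⟨ξ, hξ, hξm⟩ := exists_minExp (p := p) (block_nonempty hM hB)
  obtain ⟨n, hn, -⟩ := exists_coeff hpr χ
  have hba : b ≤ a := factorization_deg_le χ
  have hξb : ¬ ((p ^ (b + 1) : ℕ) : ℤ) ∣ n ξ := by
    rw [(dvd_coeff_iff hM χ ξ (n ξ) (hn ξ)).2]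
    exact rInner_not_memIdeal hM hB hξ hχ hξm
  have hχb : ((p ^ (b + 1) : ℕ) : ℤ) ∣ n χ := by
    rw [(dvd_coeff_iff hM χ χ (n χ) (hn χ)).2]
    exact rInner_memIdeal hM hB hχ hh
  obtain ⟨m, hm⟩ := hχb
  have hpos := coeff_self_pos hpr χ (n χ) (hn χ)
  have hm1 : 1 ≤ m := by
    by_contra hlt
    push Not at hlt
    have : n χ ≤ 0 := by
      rw [hm]; exact mul_nonpos_of_nonneg_of_nonpos (by positivity) (by omega)
    omega
  have hξ0 : n ξ ≠ 0 := fun h => hξb (h ▸ dvd_zero _)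
  have hξχ : ξ ≠ χ := by rintro rfl; omega
  have hsum := coeff_sum_sq hpr χ n hn
  have h2 : n χ ^ 2 < ((p ^ a : ℕ) : ℤ) * n χ := by
    rw [← hsum]
    calc n χ ^ 2 < n χ ^ 2 + n ξ ^ 2 := by
          have : 0 < n ξ ^ 2 := by positivity
          omega
      _ = ∑ ψ ∈ ({χ, ξ} : Finset (IrrCharacter G)), n ψ ^ 2 := by
          rw [Finset.sum_pair (Ne.symm hξχ)]
      _ ≤ _ := Finset.sum_le_sum_of_subset_of_nonneg (Finset.subset_univ _)
          (fun ψ _ _ => sq_nonneg _)
  have h3 : n χ < ((p ^ a : ℕ) : ℤ) := by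
    rw [sq] at h2
    exact lt_of_mul_lt_mul_right h2 hpos.le
  rw [hm] at h3
  by_contra hcon
  have : a ≤ b + 1 := by omega
  have h4 : ((p ^ a : ℕ) : ℤ) ≤ ((p ^ (b + 1) : ℕ) : ℤ) := by
    exact_mod_cast Nat.pow_le_pow_right hpr.pos this
  nlinarith [(by positivity : (0 : ℤ) ≤ ((p ^ (b + 1) : ℕ) : ℤ))]

/-- The Brauer-Feit bound. -/
theorem brauer_feit [Fact p.Prime] (hM : IsPModular p M) {B : Set (IrrCharacter G)}
    (hB : IsPBlock M B) :
    4 * Nat.card B ≤ p ^ (2 * blockDefect p B) + 4 := by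
  classical
  haveI := Fintype.ofFinite G
  have hpr : p.Prime := Fact.out
  obtain ⟨χ, hχ, hχm⟩ := exists_minExp (p := p) (block_nonempty hM hB)
  obtain ⟨n, hn, -⟩ := exists_coeff hpr χ
  rw [blockDefect_eq, ← hχm]
  set a := (Nat.card G).factorization p with ha
  set b := (charDegree (χ : G → ℂ)).factorization p with hb
  have hba : b ≤ a := factorization_deg_le χ
  choose q hq using fun ψ => (dvd_coeff_iff hM χ ψ (n ψ) (hn ψ)).1
  have hq0 : ∀ ψ ∈ B.toFinset, q ψ ≠ 0 := by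
    intro ψ hψ h0
    have h := rInner_not_memIdeal hM hB hχ (Set.mem_toFinset.1 hψ) hχm
    apply h
    have h1 := classInner_eq_rInner_mul p (χ : G → ℂ) ψ
    rw [hn ψ, hq ψ, h0, mul_zero, Int.cast_zero] at h1
    rcases mul_eq_zero.1 h1.symm with h2 | h2
    · rw [h2]; exact memIdeal_zero hM
    · exact absurd h2 (by exact_mod_cast (deg_pos ψ).ne')
  set P : ℤ := ((p ^ (a - b) : ℕ) : ℤ) with hP
  have hpb : (0 : ℤ) < ((p ^ b : ℕ) : ℤ) := by exact_mod_cast pow_pos hpr.pos b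
  have hsum : ∑ ψ, q ψ ^ 2 = P * q χ := by
    have h := coeff_sum_sq hpr χ n hn
    simp only [← ha] at h
    have h' : ((p ^ b : ℕ) : ℤ) ^ 2 * (∑ ψ, q ψ ^ 2) =
        ((p ^ b : ℕ) : ℤ) ^ 2 * (P * q χ) := by
      rw [Finset.mul_sum]
      calc ∑ ψ, ((p ^ b : ℕ) : ℤ) ^ 2 * q ψ ^ 2 = ∑ ψ, n ψ ^ 2 :=
            Finset.sum_congr rfl fun ψ _ => by rw [hq ψ]; ring
        _ = ((p ^ a : ℕ) : ℤ) * n χ := h
        _ = _ := by
            rw [hq χ, hP]
            conv_lhs => rw [show a = (a - b) + b by omega, pow_add, Nat.cast_mul]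
            ring
    exact mul_left_cancel₀ (pow_ne_zero 2 hpb.ne') h'
  have hχF : χ ∈ B.toFinset := Set.mem_toFinset.2 hχ
  have hle : q χ ^ 2 + ((B.toFinset.card : ℤ) - 1) ≤ P * q χ := by
    rw [← hsum]
    calc q χ ^ 2 + ((B.toFinset.card : ℤ) - 1)
        ≤ q χ ^ 2 + ∑ ψ ∈ B.toFinset.erase χ, q ψ ^ 2 := by
          refine Int.add_le_add_left ?_ _
          calc ((B.toFinset.card : ℤ) - 1) = ∑ _ψ ∈ B.toFinset.erase χ, (1 : ℤ) := by
                rw [Finset.sum_const, nsmul_one, Finset.card_erase_of_mem hχF]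
                have := Finset.card_pos.2 ⟨χ, hχF⟩
                omega
            _ ≤ _ := Finset.sum_le_sum fun ψ hψ => by
                have := hq0 ψ (Finset.mem_of_mem_erase hψ)
                have h2 : 0 < q ψ ^ 2 := by positivity
                omega
      _ = ∑ ψ ∈ B.toFinset, q ψ ^ 2 := Finset.add_sum_erase B.toFinset (fun ψ => q ψ ^ 2) hχF
      _ ≤ _ := Finset.sum_le_sum_of_subset_of_nonneg (Finset.subset_univ _)
          (fun ψ _ _ => sq_nonneg _)
  have hcard : Nat.card B = B.toFinset.card := by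
    rw [Nat.card_eq_fintype_card, Set.toFinset_card]
  rw [hcard]
  have key : 4 * (B.toFinset.card : ℤ) ≤ P ^ 2 + 4 := by
    nlinarith [sq_nonneg (P - 2 * q χ)]
  rw [hP] at key
  push_cast at key
  rw [← pow_mul, mul_comm (a - b) 2] at key
  exact_mod_cast key

end CfsgLib.BlockReg
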