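import Cfsg.Agent.Lib.BlockReg.LocalRing
import Mathlib.Analysis.Complex.Basic
import Cfsg.Agent.Lib.Char.Basic
import Cfsg.Agent.Lib.Char.Integral

/-!
# Degrees, central characters, class sums and p-adic bookkeeping for blocks
-/

set_option autoImplicit false

namespace CfsgLib.BlockReg

open Cfsg
open scoped ComplexConjugate

universe u

variable {G : Type u} [Group G] [Finite G] {p : ℕ} {M : Ideal Cfsg.AlgInt}

theorem char_conj_invariant (χ : IrrCharacter G) (g h : G) (hgh : IsConj g h) :
    (χ : G → ℂ) g = (χ : G → ℂ) h :=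
  CfsgLib.Char.IsClassFunction.eq_of_isConj (CfsgLib.Char.IsIrrCharacter.isClassFunction χ.2) hgh

theorem char_inv (χ : IrrCharacter G) (g : G) : (χ : G → ℂ) g⁻¹ = conj ((χ : G → ℂ) g) :=
  CfsgLib.Char.IsIrrCharacter.apply_inv χ.2 g

theorem deg_cast (χ : IrrCharacter G) : (charDegree (χ : G → ℂ) : ℂ) = (χ : G → ℂ) 1 :=
  CfsgLib.Char.IsCharacter.degree_cast (CfsgLib.Char.IsIrrCharacter.isCharacter χ.2)

theorem deg_pos (χ : IrrCharacter G) : 0 < charDegree (χ : G → ℂ) :=
  CfsgLib.Char.IsIrrCharacter.degree_pos χ.2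

theorem deg_ne_zero (χ : IrrCharacter G) : ((χ : G → ℂ) 1) ≠ 0 :=
  CfsgLib.Char.IsIrrCharacter.apply_one_ne_zero χ.2

theorem isIntegral_char (χ : IrrCharacter G) (g : G) : IsIntegral ℤ ((χ : G → ℂ) g) := by
  obtain ⟨n, ρ, -, h⟩ := χ.2
  rw [← h]
  exact CfsgLib.Char.isIntegral_character ρ g

theorem deg_dvd_card (χ : IrrCharacter G) : charDegree (χ : G → ℂ) ∣ Nat.card G := by
  obtain ⟨n, ρ, hirr, h⟩ := χ.2
  have hd : charDegree (χ : G → ℂ) = Module.finrank ℂ (Fin n → ℂ) := by
    rw [← h]; simp [charDegree]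
  rw [hd]
  haveI := hirr
  exact CfsgLib.Char.finrank_dvd_card ρ

/-- The order of a conjugacy class. -/
noncomputable def csize (g : G) : ℕ := (Subgroup.centralizer ({g} : Set G)).index

theorem csize_ne_zero (g : G) : csize g ≠ 0 := Subgroup.index_ne_zero_of_finite

theorem csize_mul_card (g : G) :
    Nat.card (Subgroup.centralizer ({g} : Set G)) * csize g = Nat.card G :=
  Subgroup.card_mul_index _

theorem csize_inv (g : G) : csize g⁻¹ = csize g := by
  unfold csize
  congr 1
  ext x
  simp only [Subgroup.mem_centralizer_singleton_iff]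
  exact Commute.inv_right_iff (a := x) (b := g)

theorem csize_one : csize (1 : G) = 1 := by
  unfold csize
  rw [Subgroup.index_eq_one, eq_top_iff]
  intro x _
  simp [Subgroup.mem_centralizer_singleton_iff]

theorem centralChar_eq (χ : IrrCharacter G) (g : G) :
    centralChar (χ : G → ℂ) g = (csize g : ℂ) * (χ : G → ℂ) g / (χ : G → ℂ) 1 := rfl

theorem centralChar_congr_isConj (χ : IrrCharacter G) {g h : G} (hgh : IsConj g h) :
    centralChar (χ : G → ℂ) g = centralChar (χ : G → ℂ) h := by
  rw [centralChar_eq, centralChar_eq, char_conj_invariant χ g h hgh]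
  congr 3
  unfold csize
  obtain ⟨c, hc⟩ := isConj_iff.1 hgh
  have : Subgroup.centralizer ({h} : Set G) =
      (Subgroup.centralizer ({g} : Set G)).map (MulAut.conj c).toMonoidHom := by
    ext x
    simp only [Subgroup.mem_map_equiv, MulAut.conj_symm_apply,
      Subgroup.mem_centralizer_singleton_iff]
    subst hc
    constructor <;> intro hx
    · have := congrArg (fun z => c⁻¹ * z * c) hx
      simpa [mul_assoc] using this
    · have := congrArg (fun z => c * z * c⁻¹) hx
      simpa [mul_assoc] using this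
  rw [this]
  exact (Subgroup.index_map_equiv (Subgroup.centralizer ({g} : Set G)) (MulAut.conj c)).symm

theorem isIntegral_centralChar (χ : IrrCharacter G) (g : G) :
    IsIntegral ℤ (centralChar (χ : G → ℂ) g) := by
  obtain ⟨n, ρ, hirr, h⟩ := χ.2
  haveI := hirr
  have := CfsgLib.Char.isIntegral_index_mul_char_div ρ g
  rw [← ρ.char_one, h] at this
  exact this

theorem centralChar_one (χ : IrrCharacter G) : centralChar (χ : G → ℂ) 1 = 1 := by
  rw [centralChar_eq, csize_one, Nat.cast_one, one_mul, div_self (deg_ne_zero χ)]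

/-- Sums of class functions over the group, by classes. -/
theorem sum_eq_sum_classes [Fintype G] [Fintype (ConjClasses G)] (F : G → ℂ)
    (hF : ∀ g h, IsConj g h → F g = F h) :
    ∑ g, F g = ∑ C : ConjClasses G, (csize C.out : ℂ) * F C.out := by
  classical
  rw [← Finset.sum_fiberwise Finset.univ ConjClasses.mk F]
  refine Finset.sum_congr rfl fun C _ => ?_
  have hout : ConjClasses.mk C.out = C := Quotient.out_eq C
  have hfil : (Finset.univ.filter fun g => ConjClasses.mk g = C) =
      Finset.univ.filter fun g => IsConj C.out g := by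
    ext g
    simp only [Finset.mem_filter, Finset.mem_univ, true_and]
    conv_lhs => rw [← hout]
    rw [ConjClasses.mk_eq_mk_iff_isConj]
    exact isConj_comm
  rw [hfil]
  have : ∀ g ∈ Finset.univ.filter (fun g => IsConj C.out g), F g = F C.out := by
    intro g hg
    exact (hF _ _ (Finset.mem_filter.1 hg).2).symm
  rw [Finset.sum_congr rfl this, Finset.sum_const, nsmul_eq_mul,
    CfsgLib.Char.card_conjClass]
  rfl

/-- The linear extension of the central character to a class function. -/
theorem sum_mul_char_div [Fintype G] [Fintype (ConjClasses G)] (χ : IrrCharacter G) (f : G → ℂ)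
    (hf : ∀ g h, IsConj g h → f g = f h) :
    (∑ g, f g * (χ : G → ℂ) g) / (χ : G → ℂ) 1 =
      ∑ C : ConjClasses G, f C.out * centralChar (χ : G → ℂ) C.out := by
  rw [sum_eq_sum_classes (fun g => f g * (χ : G → ℂ) g)
    (fun g h hgh => by show _ * _ = _; rw [hf g h hgh, char_conj_invariant χ g h hgh]),
    Finset.sum_div]
  refine Finset.sum_congr rfl fun C _ => ?_
  rw [centralChar_eq]
  ring

/-! ### p-adic bookkeeping -/

theorem natCast_div_memRing (hM : IsPModular p M) {n m : ℕ} (hm : m ≠ 0)
    (h : n = 0 ∨ m.factorization p ≤ n.factorization p) :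
    MemLocalRing M ((n : ℂ) / m) := by
  rcases eq_or_ne n 0 with rfl | hn
  · simpa using memRing_zero hM
  have hle : m.factorization p ≤ n.factorization p := h.resolve_left hn
  have h1 : p ^ m.factorization p ∣ n :=
    (Nat.pow_dvd_pow p hle).trans (Nat.ordProj_dvd n p)
  obtain ⟨k, hk⟩ := h1
  have hm' : m = p ^ m.factorization p * (m / p ^ m.factorization p) :=
    (Nat.ordProj_mul_ordCompl_eq_self m p).symm
  have hnd : ¬ p ∣ m / p ^ m.factorization p := Nat.not_dvd_ordCompl hM.1 hm
  have hpne : ((p : ℂ)) ^ m.factorization p ≠ 0 :=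
    pow_ne_zero _ (by exact_mod_cast hM.1.ne_zero)
  have hq : (n : ℂ) / m = (k : ℂ) / ((m / p ^ m.factorization p : ℕ) : ℂ) := by
    generalize hj : m / p ^ m.factorization p = j at hm' ⊢
    generalize he : m.factorization p = e at hk hm' hpne ⊢
    subst hk hm'
    push_cast
    rw [mul_div_mul_left _ _ hpne]
  rw [hq, div_eq_mul_inv]
  exact memRing_mul hM (memRing_natCast hM k) (memRing_inv_natCast hM hnd)

theorem natCast_div_memIdeal (hM : IsPModular p M) {n m : ℕ} (hm : m ≠ 0)
    (h : m.factorization p < n.factorization p) :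
    MemLocalIdeal M ((n : ℂ) / m) := by
  have hn : n ≠ 0 := by rintro rfl; simp at h
  have hpn : p ∣ n := Nat.dvd_of_factorization_pos (by omega)
  obtain ⟨k, rfl⟩ := hpn
  have hk : k ≠ 0 := by rintro rfl; simp at hn
  have : (k.factorization p) + 1 = (p * k).factorization p := by
    rw [Nat.factorization_mul hM.1.ne_zero hk]
    simp [hM.1.factorization_self, add_comm]
  push_cast
  rw [mul_div_assoc]
  exact memIdeal_mul_right hM ((memIdeal_natCast_iff hM p).2 dvd_rfl)
    (natCast_div_memRing hM hm (Or.inr (by omega)))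

theorem natCast_div_unit (hM : IsPModular p M) {n m : ℕ} (hn : n ≠ 0) (hm : m ≠ 0)
    (h : n.factorization p = m.factorization p) :
    MemLocalRing M ((n : ℂ) / m) ∧ ¬ MemLocalIdeal M ((n : ℂ) / m) := by
  refine ⟨natCast_div_memRing hM hm (Or.inr h.ge), fun hI => ?_⟩
  have := memIdeal_mul_right hM hI (natCast_div_memRing hM hn (Or.inr h.le))
  rw [div_mul_div_cancel₀ (by exact_mod_cast hm), div_self (by exact_mod_cast hn)] at this
  exact not_memIdeal_one hM this

theorem factorization_deg_le (χ : IrrCharacter G) :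
    (charDegree (χ : G → ℂ)).factorization p ≤ (Nat.card G).factorization p :=
  (Nat.factorization_le_iff_dvd (deg_pos χ).ne' Nat.card_pos.ne').2 (deg_dvd_card χ) p

/-- If the class of `g` has larger p-part than `χ 1`, the central character is zero mod `M`. -/
theorem centralChar_memIdeal (hM : IsPModular p M) (χ : IrrCharacter G) (g : G)
    (h : (charDegree (χ : G → ℂ)).factorization p < (csize g).factorization p) :
    MemLocalIdeal M (centralChar (χ : G → ℂ) g) := by
  rw [centralChar_eq, mul_div_right_comm, ← deg_cast]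
  exact memIdeal_mul_right hM (natCast_div_memIdeal hM (deg_pos χ).ne' h)
    (memRing_algInt hM (isIntegral_char χ g))

theorem char_eq_centralChar_mul (χ : IrrCharacter G) (g : G) :
    (χ : G → ℂ) g =
      centralChar (χ : G → ℂ) g * ((charDegree (χ : G → ℂ) : ℂ) / (csize g : ℂ)) := by
  have h1 : (csize g : ℂ) ≠ 0 := by exact_mod_cast csize_ne_zero g
  have h2 := deg_ne_zero χ
  rw [centralChar_eq, deg_cast]
  field_simp

/-- If `χ 1` has larger p-part than the class of `g`, then `χ g` is zero mod `M`. -/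
theorem char_memIdeal (hM : IsPModular p M) (χ : IrrCharacter G) (g : G)
    (h : (csize g).factorization p < (charDegree (χ : G → ℂ)).factorization p) :
    MemLocalIdeal M ((χ : G → ℂ) g) := by
  rw [char_eq_centralChar_mul]
  exact memIdeal_mul_left hM (memRing_algInt hM (isIntegral_centralChar χ g))
    (natCast_div_memIdeal hM (csize_ne_zero g) h)

theorem memRing_centralChar (hM : IsPModular p M) (χ : IrrCharacter G) (g : G) :
    MemLocalRing M (centralChar (χ : G → ℂ) g) :=
  memRing_algInt hM (isIntegral_centralChar χ g)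

theorem memRing_char (hM : IsPModular p M) (χ : IrrCharacter G) (g : G) :
    MemLocalRing M ((χ : G → ℂ) g) :=
  memRing_algInt hM (isIntegral_char χ g)

/-! ### Blocks -/

omit [Finite G] in
theorem sameBlock_refl (hM : IsPModular p M) (χ : G → ℂ) : SameBlock M χ χ := fun _ => by
  rw [sub_self]; exact memIdeal_zero hM

omit [Finite G] in
theorem sameBlock_symm {χ ψ : G → ℂ} (h : SameBlock M χ ψ) : SameBlock M ψ χ :=
  fun g => by simpa using memIdeal_neg (h g)

omit [Finite G] in
theorem sameBlock_trans (hM : IsPModular p M) {χ ψ θ : G → ℂ} (h : SameBlock M χ ψ)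
    (h' : SameBlock M ψ θ) : SameBlock M χ θ := fun g => by
  simpa using memIdeal_add hM (h g) (h' g)

omit [Finite G] in
theorem block_congr (hM : IsPModular p M) {B : Set (IrrCharacter G)} (hB : IsPBlock M B)
    {χ ψ : IrrCharacter G} (hχ : χ ∈ B) (hψ : ψ ∈ B) :
    SameBlock M (χ : G → ℂ) (ψ : G → ℂ) := by
  obtain ⟨θ, rfl⟩ := hB
  exact sameBlock_trans hM (sameBlock_symm hχ) hψ

omit [Finite G] in
theorem block_eq_blockOf (hM : IsPModular p M) {B : Set (IrrCharacter G)} (hB : IsPBlock M B)
    {χ : IrrCharacter G} (hχ : χ ∈ B) : B = blockOf M (χ : G → ℂ) := by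
  ext ψ
  refine ⟨fun hψ => block_congr hM hB hχ hψ, fun hψ => ?_⟩
  obtain ⟨θ, rfl⟩ := hB
  exact sameBlock_trans hM hχ hψ

omit [Finite G] in
theorem mem_of_sameBlock (hM : IsPModular p M) {B : Set (IrrCharacter G)} (hB : IsPBlock M B)
    {χ ψ : IrrCharacter G} (hχ : χ ∈ B) (h : SameBlock M (χ : G → ℂ) (ψ : G → ℂ)) : ψ ∈ B := by
  rw [block_eq_blockOf hM hB hχ]; exact h

omit [Finite G] in
theorem block_nonempty (hM : IsPModular p M) {B : Set (IrrCharacter G)} (hB : IsPBlock M B) :
    B.Nonempty := by
  obtain ⟨θ, rfl⟩ := hB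
  exact ⟨θ, sameBlock_refl hM _⟩

omit [Finite G] in
theorem isPBlock_blockOf (χ : IrrCharacter G) : IsPBlock M (blockOf M (χ : G → ℂ)) := ⟨χ, rfl⟩

/-- The least exponent of `p` in the degrees of a block. -/
noncomputable def minExp (p : ℕ) (B : Set (IrrCharacter G)) : ℕ :=
  sInf ((fun χ : IrrCharacter G => (charDegree (χ : G → ℂ)).factorization p) '' B)

omit [Finite G] in
theorem blockHeight_eq (p : ℕ) (B : Set (IrrCharacter G)) (χ : G → ℂ) :
    blockHeight p B χ = (charDegree χ).factorization p - minExp p B := rfl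

omit [Finite G] in
theorem blockDefect_eq (p : ℕ) (B : Set (IrrCharacter G)) :
    blockDefect p B = (Nat.card G).factorization p - minExp p B := rfl

omit [Finite G] in
theorem minExp_le {B : Set (IrrCharacter G)} {χ : IrrCharacter G} (hχ : χ ∈ B) :
    minExp p B ≤ (charDegree (χ : G → ℂ)).factorization p :=
  Nat.sInf_le ⟨χ, hχ, rfl⟩

omit [Finite G] in
theorem exists_minExp {B : Set (IrrCharacter G)} (hB : B.Nonempty) :
    ∃ χ ∈ B, (charDegree (χ : G → ℂ)).factorization p = minExp p B := by
  obtain ⟨χ, hχ, h⟩ := Nat.sInf_mem (hB.image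
    (fun χ : IrrCharacter G => (charDegree (χ : G → ℂ)).factorization p))
  exact ⟨χ, hχ, h⟩

end CfsgLib.BlockReg
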