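import Cfsg.Prelude.Def_Blocks
import Mathlib.LinearAlgebra.Matrix.Charpoly.Eigs
import Mathlib.RingTheory.Ideal.Quotient.Basic
import Mathlib.RingTheory.RootsOfUnity.Complex
import Mathlib.RingTheory.Polynomial.Cyclotomic.Basic
import Mathlib.RingTheory.IntegralClosure.IntegrallyClosed
import Mathlib.Analysis.Complex.Polynomial.Basic
import Mathlib.Algebra.CharP.Lemmas
import Mathlib.Tactic.LinearCombination

/-!
# The local ring of algebraic integers at a maximal ideal above `p`

API for `Cfsg.MemLocalRing` and `Cfsg.MemLocalIdeal`, plus the rigidity lemma for traces of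
idempotent matrices with entries in the local ring.
-/

set_option autoImplicit false

namespace CfsgLib.BlockReg

open Cfsg Polynomial

variable {p : ℕ} {M : Ideal Cfsg.AlgInt}

theorem prime_p (hM : IsPModular p M) : p.Prime := hM.1

theorem isPrime_M (hM : IsPModular p M) : M.IsPrime := hM.2.1.isPrime

theorem one_notMem (hM : IsPModular p M) : (1 : AlgInt) ∉ M :=
  fun h => hM.2.1.ne_top ((Ideal.eq_top_iff_one M).2 h)

theorem memRing_algInt (hM : IsPModular p M) {z : ℂ} (hz : IsIntegral ℤ z) : MemLocalRing M z :=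
  ⟨⟨z, hz⟩, 1, one_notMem hM, by simp⟩

theorem memRing_intCast (hM : IsPModular p M) (n : ℤ) : MemLocalRing M (n : ℂ) :=
  memRing_algInt hM (isIntegral_intCast n)

theorem memRing_natCast (hM : IsPModular p M) (n : ℕ) : MemLocalRing M (n : ℂ) :=
  memRing_algInt hM (isIntegral_natCast n)

theorem memRing_zero (hM : IsPModular p M) : MemLocalRing M 0 := by
  simpa using memRing_natCast hM 0

theorem memRing_one (hM : IsPModular p M) : MemLocalRing M 1 := by
  simpa using memRing_natCast hM 1

private theorem coe_ne_zero {b : AlgInt} (hb : b ∉ M) : (b : ℂ) ≠ 0 := by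
  intro h
  apply hb
  have : b = 0 := Subtype.ext (by simpa using h)
  rw [this]; exact M.zero_mem

theorem memRing_mul (hM : IsPModular p M) {x y : ℂ} (hx : MemLocalRing M x)
    (hy : MemLocalRing M y) : MemLocalRing M (x * y) := by
  obtain ⟨a, b, hb, rfl⟩ := hx
  obtain ⟨c, d, hd, rfl⟩ := hy
  exact ⟨a * c, b * d, fun h => ((isPrime_M hM).mem_or_mem h).elim hb hd, by
    push_cast; rw [div_mul_div_comm]⟩

theorem memRing_add (hM : IsPModular p M) {x y : ℂ} (hx : MemLocalRing M x)
    (hy : MemLocalRing M y) : MemLocalRing M (x + y) := by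
  obtain ⟨a, b, hb, rfl⟩ := hx
  obtain ⟨c, d, hd, rfl⟩ := hy
  have hb' := coe_ne_zero hb
  have hd' := coe_ne_zero hd
  exact ⟨a * d + b * c, b * d, fun h => ((isPrime_M hM).mem_or_mem h).elim hb hd, by
    push_cast; rw [div_add_div _ _ hb' hd']⟩

theorem memRing_neg {x : ℂ} (hx : MemLocalRing M x) : MemLocalRing M (-x) := by
  obtain ⟨a, b, hb, rfl⟩ := hx
  exact ⟨-a, b, hb, by push_cast; rw [neg_div]⟩

theorem memRing_sub (hM : IsPModular p M) {x y : ℂ} (hx : MemLocalRing M x)
    (hy : MemLocalRing M y) : MemLocalRing M (x - y) := by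
  rw [sub_eq_add_neg]; exact memRing_add hM hx (memRing_neg hy)

theorem memIdeal_memRing {x : ℂ} (hx : MemLocalIdeal M x) : MemLocalRing M x := by
  obtain ⟨a, b, -, hb, rfl⟩ := hx
  exact ⟨a, b, hb, rfl⟩

theorem memIdeal_zero (hM : IsPModular p M) : MemLocalIdeal M 0 :=
  ⟨0, 1, M.zero_mem, one_notMem hM, by simp⟩

theorem memIdeal_neg {x : ℂ} (hx : MemLocalIdeal M x) : MemLocalIdeal M (-x) := by
  obtain ⟨a, b, ha, hb, rfl⟩ := hx
  exact ⟨-a, b, M.neg_mem ha, hb, by push_cast; rw [neg_div]⟩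

theorem memIdeal_add (hM : IsPModular p M) {x y : ℂ} (hx : MemLocalIdeal M x)
    (hy : MemLocalIdeal M y) : MemLocalIdeal M (x + y) := by
  obtain ⟨a, b, ha, hb, rfl⟩ := hx
  obtain ⟨c, d, hc, hd, rfl⟩ := hy
  have hb' := coe_ne_zero hb
  have hd' := coe_ne_zero hd
  exact ⟨a * d + b * c, b * d, M.add_mem (M.mul_mem_right _ ha) (M.mul_mem_left _ hc),
    fun h => ((isPrime_M hM).mem_or_mem h).elim hb hd, by
    push_cast; rw [div_add_div _ _ hb' hd']⟩

theorem memIdeal_sub (hM : IsPModular p M) {x y : ℂ} (hx : MemLocalIdeal M x)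
    (hy : MemLocalIdeal M y) : MemLocalIdeal M (x - y) := by
  rw [sub_eq_add_neg]; exact memIdeal_add hM hx (memIdeal_neg hy)

theorem memIdeal_mul_left (hM : IsPModular p M) {x y : ℂ} (hx : MemLocalRing M x)
    (hy : MemLocalIdeal M y) : MemLocalIdeal M (x * y) := by
  obtain ⟨a, b, hb, rfl⟩ := hx
  obtain ⟨c, d, hc, hd, rfl⟩ := hy
  exact ⟨a * c, b * d, M.mul_mem_left _ hc,
    fun h => ((isPrime_M hM).mem_or_mem h).elim hb hd, by push_cast; rw [div_mul_div_comm]⟩

theorem memIdeal_mul_right (hM : IsPModular p M) {x y : ℂ} (hx : MemLocalIdeal M x)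
    (hy : MemLocalRing M y) : MemLocalIdeal M (x * y) := by
  rw [mul_comm]; exact memIdeal_mul_left hM hy hx

theorem memIdeal_algInt_iff (hM : IsPModular p M) (a : AlgInt) :
    MemLocalIdeal M (a : ℂ) ↔ a ∈ M := by
  constructor
  · rintro ⟨c, d, hc, hd, h⟩
    rw [div_eq_iff (coe_ne_zero hd)] at h
    have h' : c = a * d := Subtype.ext (by push_cast; exact h)
    rw [h'] at hc
    exact ((isPrime_M hM).mem_or_mem hc).resolve_right hd
  · exact fun ha => ⟨a, 1, ha, one_notMem hM, by simp⟩

theorem not_memIdeal_one (hM : IsPModular p M) : ¬ MemLocalIdeal M (1 : ℂ) := by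
  have := memIdeal_algInt_iff hM 1
  simp only [OneMemClass.coe_one] at this
  rw [this]; exact one_notMem hM

theorem not_memIdeal_mul (hM : IsPModular p M) {x y : ℂ} (hx : MemLocalRing M x)
    (hy : MemLocalRing M y) (hx' : ¬ MemLocalIdeal M x) (hy' : ¬ MemLocalIdeal M y) :
    ¬ MemLocalIdeal M (x * y) := by
  obtain ⟨a, b, hb, rfl⟩ := hx
  obtain ⟨c, d, hd, rfl⟩ := hy
  have ha : a ∉ M := fun h => hx' ⟨a, b, h, hb, rfl⟩
  have hc : c ∉ M := fun h => hy' ⟨c, d, h, hd, rfl⟩
  rintro ⟨e, f, he, hf, h⟩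
  rw [div_mul_div_comm, div_eq_div_iff (coe_ne_zero hf)
    (mul_ne_zero (coe_ne_zero hb) (coe_ne_zero hd))] at h
  have h' : e * (b * d) = a * c * f := Subtype.ext (by push_cast; exact h)
  have : a * c * f ∈ M := h' ▸ M.mul_mem_right _ he
  rcases (isPrime_M hM).mem_or_mem this with h1 | h1
  · exact ((isPrime_M hM).mem_or_mem h1).elim ha hc
  · exact hf h1

theorem memRing_inv (hM : IsPModular p M) {x : ℂ} (hx : MemLocalRing M x)
    (hx' : ¬ MemLocalIdeal M x) : MemLocalRing M x⁻¹ := by
  obtain ⟨a, b, hb, rfl⟩ := hx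
  have ha : a ∉ M := fun h => hx' ⟨a, b, h, hb, rfl⟩
  exact ⟨b, a, ha, by rw [inv_div]⟩

theorem ne_zero_of_not_memIdeal (hM : IsPModular p M) {x : ℂ} (hx : ¬ MemLocalIdeal M x) :
    x ≠ 0 := fun h => hx (h ▸ memIdeal_zero hM)

theorem not_memIdeal_inv (hM : IsPModular p M) {x : ℂ} (hx : MemLocalRing M x)
    (hx' : ¬ MemLocalIdeal M x) : ¬ MemLocalIdeal M x⁻¹ := by
  intro h
  have := memIdeal_mul_left hM hx h
  rw [mul_inv_cancel₀ (ne_zero_of_not_memIdeal hM hx')] at this
  exact not_memIdeal_one hM this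

theorem memRing_sum (hM : IsPModular p M) {ι : Type*} (s : Finset ι) {f : ι → ℂ}
    (h : ∀ i ∈ s, MemLocalRing M (f i)) : MemLocalRing M (∑ i ∈ s, f i) :=
  Finset.sum_induction f (MemLocalRing M) (fun _ _ => memRing_add hM) (memRing_zero hM) h

theorem memRing_prod (hM : IsPModular p M) {ι : Type*} (s : Finset ι) {f : ι → ℂ}
    (h : ∀ i ∈ s, MemLocalRing M (f i)) : MemLocalRing M (∏ i ∈ s, f i) :=
  Finset.prod_induction f (MemLocalRing M) (fun _ _ => memRing_mul hM) (memRing_one hM) h

theorem memIdeal_sum (hM : IsPModular p M) {ι : Type*} (s : Finset ι) {f : ι → ℂ}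
    (h : ∀ i ∈ s, MemLocalIdeal M (f i)) : MemLocalIdeal M (∑ i ∈ s, f i) :=
  Finset.sum_induction f (MemLocalIdeal M) (fun _ _ => memIdeal_add hM) (memIdeal_zero hM) h

theorem memRing_pow (hM : IsPModular p M) {x : ℂ} (hx : MemLocalRing M x) (n : ℕ) :
    MemLocalRing M (x ^ n) := by
  induction n with
  | zero => simpa using memRing_one hM
  | succ n ih => rw [pow_succ]; exact memRing_mul hM ih hx

theorem memIdeal_natCast_iff (hM : IsPModular p M) (n : ℕ) :
    MemLocalIdeal M (n : ℂ) ↔ p ∣ n := by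
  have key := memIdeal_algInt_iff hM (n : AlgInt)
  rw [show (((n : AlgInt)) : ℂ) = (n : ℂ) from map_natCast (Subalgebra.val AlgInt) n] at key
  rw [key]
  constructor
  · intro hn
    by_contra hpn
    have hc : Nat.Coprime p n := (Nat.Prime.coprime_iff_not_dvd hM.1).2 hpn
    have hbez := Nat.gcd_eq_gcd_ab p n
    rw [hc] at hbez
    apply one_notMem hM
    have h1 : (1 : AlgInt) = (p : AlgInt) * (Nat.gcdA p n : ℤ) + (n : AlgInt) * (Nat.gcdB p n : ℤ) := by
      have := congrArg (fun z : ℤ => (z : AlgInt)) hbez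
      push_cast at this
      exact this
    rw [h1]
    exact M.add_mem (M.mul_mem_right _ hM.2.2) (M.mul_mem_right _ hn)
  · rintro ⟨k, rfl⟩
    push_cast
    exact M.mul_mem_right _ hM.2.2

theorem memIdeal_intCast_iff (hM : IsPModular p M) (n : ℤ) :
    MemLocalIdeal M (n : ℂ) ↔ (p : ℤ) ∣ n := by
  rw [Int.natCast_dvd, ← memIdeal_natCast_iff hM]
  rcases Int.natAbs_eq n with h | h
  · conv_lhs => rw [h, Int.cast_natCast]
  · conv_lhs => rw [h, Int.cast_neg, Int.cast_natCast]
    exact ⟨fun hh => by simpa using memIdeal_neg hh, memIdeal_neg⟩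

theorem not_memIdeal_natCast (hM : IsPModular p M) {n : ℕ} (hn : ¬ p ∣ n) :
    ¬ MemLocalIdeal M (n : ℂ) := fun h => hn ((memIdeal_natCast_iff hM n).1 h)

theorem memRing_inv_natCast (hM : IsPModular p M) {n : ℕ} (hn : ¬ p ∣ n) :
    MemLocalRing M (n : ℂ)⁻¹ :=
  memRing_inv hM (memRing_natCast hM n) (not_memIdeal_natCast hM hn)

/-- The two sides of a congruence, one in the local ring: so is the other. -/
theorem memRing_of_sub (hM : IsPModular p M) {x y : ℂ} (h : MemLocalIdeal M (x - y))
    (hy : MemLocalRing M y) : MemLocalRing M x := by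
  simpa using memRing_add hM (memIdeal_memRing h) hy

theorem memIdeal_iff_of_sub (hM : IsPModular p M) {x y : ℂ} (h : MemLocalIdeal M (x - y)) :
    MemLocalIdeal M x ↔ MemLocalIdeal M y :=
  ⟨fun hx => by simpa using memIdeal_sub hM hx h, fun hy => by simpa using memIdeal_add hM h hy⟩

theorem memIdeal_mul_sub_mul (hM : IsPModular p M) {x y x' y' : ℂ}
    (hy : MemLocalRing M y) (hx' : MemLocalRing M x')
    (hxx : MemLocalIdeal M (x - x')) (hyy : MemLocalIdeal M (y - y')) :
    MemLocalIdeal M (x * y - x' * y') := by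
  have : x * y - x' * y' = (x - x') * y + x' * (y - y') := by ring
  rw [this]
  exact memIdeal_add hM (memIdeal_mul_right hM hxx hy) (memIdeal_mul_left hM hx' hyy)

theorem memRing_of_pow_eq_one (hM : IsPModular p M) {z : ℂ} {n : ℕ} (hn : 0 < n)
    (h : z ^ n = 1) : MemLocalRing M z :=
  memRing_algInt hM (IsIntegral.of_pow hn (h ▸ isIntegral_one))

/-- A root of unity of order `p` is congruent to one. -/
theorem memIdeal_sub_one_of_pow_p (hM : IsPModular p M) {ε : ℂ} (hε : ε ^ p = 1) :
    MemLocalIdeal M (ε - 1) := by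
  set e : AlgInt := ⟨ε, IsIntegral.of_pow hM.1.pos (hε ▸ isIntegral_one)⟩ with he
  have h1 : ((e - 1 : AlgInt) : ℂ) = ε - 1 := by simp [he]
  rw [← h1, memIdeal_algInt_iff hM]
  apply (isPrime_M hM).mem_of_pow_mem p
  obtain ⟨r, hr⟩ := exists_add_pow_prime_eq hM.1 (e - 1) (1 : AlgInt)
  have h2 : e ^ p = 1 := Subtype.ext (by simp [he, hε])
  rw [sub_add_cancel, h2, one_pow] at hr
  have h3 : (e - 1) ^ p = (p : AlgInt) * (-((e - 1) * 1 * r)) := by
    linear_combination -hr
  rw [h3]
  exact M.mul_mem_right _ hM.2.2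

/-- The local ring as a subring of `ℂ`. -/
noncomputable def localSubring (hM : IsPModular p M) : Subring ℂ where
  carrier := {z | MemLocalRing M z}
  mul_mem' := memRing_mul hM
  one_mem' := memRing_one hM
  add_mem' := memRing_add hM
  zero_mem' := memRing_zero hM
  neg_mem' := memRing_neg

/-- The maximal ideal of `localSubring`. -/
noncomputable def localIdeal (hM : IsPModular p M) : Ideal (localSubring hM) where
  carrier := {z | MemLocalIdeal M (z : ℂ)}
  add_mem' := fun ha hb => by
    simp only [Set.mem_setOf_eq] at *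
    push_cast; exact memIdeal_add hM ha hb
  zero_mem' := by simp only [Set.mem_setOf_eq, ZeroMemClass.coe_zero]; exact memIdeal_zero hM
  smul_mem' := fun c x hx => by
    simp only [Set.mem_setOf_eq, smul_eq_mul] at *
    push_cast; exact memIdeal_mul_left hM c.2 hx

theorem isPrime_localIdeal (hM : IsPModular p M) : (localIdeal hM).IsPrime := by
  constructor
  · rw [Ne, Ideal.eq_top_iff_one]
    exact not_memIdeal_one hM
  · intro x y h
    by_contra hc
    push Not at hc
    exact not_memIdeal_mul hM x.2 y.2 hc.1 hc.2 h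

section Idempotent

variable {ι : Type*} [Fintype ι] [DecidableEq ι]

theorem idempotent_charpoly_roots {P : Matrix ι ι ℂ} (hP : P * P = P) :
    ∃ r s : ℕ, P.charpoly = (X - C 1) ^ r * (X - C 0) ^ s ∧ P.trace = (r : ℂ) := by
  classical
  have hroot : ∀ x ∈ P.charpoly.roots, x = 0 ∨ x = 1 := by
    intro x hx
    have hr := (Polynomial.mem_roots'.1 hx).2
    have hsp : x ∈ spectrum ℂ P := (Matrix.mem_spectrum_iff_isRoot_charpoly).2 hr
    have hI : IsIdempotentElem P := hP
    simpa using hI.spectrum_subset ℂ hsp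
  set R := P.charpoly.roots with hR
  have hRsplit : R = Multiset.replicate (R.count 1) 1 + Multiset.replicate (R.count 0) 0 := by
    ext a
    rw [Multiset.count_add, Multiset.count_replicate, Multiset.count_replicate]
    rcases eq_or_ne a 1 with rfl | ha1
    · simp
    rcases eq_or_ne a 0 with rfl | ha0
    · simp
    rw [if_neg (Ne.symm ha1), if_neg (Ne.symm ha0), Multiset.count_eq_zero.2]
    intro h
    exact (hroot a h).elim ha0 ha1
  refine ⟨R.count 1, R.count 0, ?_, ?_⟩
  · have h := (IsAlgClosed.splits P.charpoly).eq_prod_roots_of_monic P.charpoly_monic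
    rw [h, ← hR]
    conv_lhs => rw [hRsplit]
    simp [Multiset.map_replicate, Multiset.prod_replicate]
  · rw [Matrix.trace_eq_sum_roots_charpoly, ← hR]
    conv_lhs => rw [hRsplit]
    simp [Multiset.sum_replicate]

/-- Idempotent matrices over the local ring that are congruent entrywise have equal trace. -/
theorem idempotent_trace_eq (hM : IsPModular p M) {P Q : Matrix ι ι ℂ}
    (hP : P * P = P) (hQ : Q * Q = Q)
    (hPR : ∀ i j, MemLocalRing M (P i j)) (hQR : ∀ i j, MemLocalRing M (Q i j))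
    (hcong : ∀ i j, MemLocalIdeal M (P i j - Q i j)) : P.trace = Q.trace := by
  classical
  obtain ⟨r, s, hPc, hPt⟩ := idempotent_charpoly_roots hP
  obtain ⟨r', s', hQc, hQt⟩ := idempotent_charpoly_roots hQ
  let O := localSubring hM
  let f : O →+* ℂ := O.subtype
  haveI := isPrime_localIdeal hM
  let g : O →+* O ⧸ localIdeal hM := Ideal.Quotient.mk _
  let P' : Matrix ι ι O := fun i j => ⟨P i j, hPR i j⟩
  let Q' : Matrix ι ι O := fun i j => ⟨Q i j, hQR i j⟩
  have hfi : Function.Injective (Polynomial.map f) :=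
    Polynomial.map_injective f Subtype.val_injective
  have hP' : P'.charpoly = (X - C 1) ^ r * (X - C 0) ^ s := by
    apply hfi
    rw [← Matrix.charpoly_map, show P'.map f = P from rfl, hPc]
    simp [Polynomial.map_mul, Polynomial.map_pow, Polynomial.map_sub]
  have hQ' : Q'.charpoly = (X - C 1) ^ r' * (X - C 0) ^ s' := by
    apply hfi
    rw [← Matrix.charpoly_map, show Q'.map f = Q from rfl, hQc]
    simp [Polynomial.map_mul, Polynomial.map_pow, Polynomial.map_sub]
  have hmap : P'.map g = Q'.map g := by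
    ext i j
    exact Ideal.Quotient.eq.2 (hcong i j)
  have h := congrArg Matrix.charpoly hmap
  rw [Matrix.charpoly_map, Matrix.charpoly_map, hP', hQ'] at h
  have h2 := congrArg (fun q => (q.rootMultiplicity 1)) h
  have hr : ∀ a b : ℕ, (((X - C 1) ^ a * (X - C 0) ^ b : O[X]).map g).rootMultiplicity 1 = a := by
    intro a b
    rw [Polynomial.map_mul, Polynomial.map_pow, Polynomial.map_pow, Polynomial.map_sub,
      Polynomial.map_sub, Polynomial.map_X, Polynomial.map_C, Polynomial.map_C, map_one g,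
      map_zero g]
    rw [Polynomial.rootMultiplicity_mul (mul_ne_zero (pow_ne_zero _ (X_sub_C_ne_zero 1))
      (pow_ne_zero _ (X_sub_C_ne_zero 0))), Polynomial.rootMultiplicity_X_sub_C_pow,
      Polynomial.rootMultiplicity_eq_zero, add_zero]
    simp [Polynomial.IsRoot]
  rw [show r = r' by simpa only [hr] using h2] at hPt
  rw [hPt, hQt]

end Idempotent

/-- A complex matrix annihilated by a monic integer polynomial has integral trace. -/
theorem isIntegral_trace {ι : Type*} [Fintype ι] [DecidableEq ι] (T : Matrix ι ι ℂ)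
    (hT : IsIntegral ℤ T) : IsIntegral ℤ T.trace := by
  rw [Matrix.trace_eq_sum_roots_charpoly]
  refine IsIntegral.multiset_sum fun x hx => ?_
  have hsp : x ∈ spectrum ℂ T :=
    (Matrix.mem_spectrum_iff_isRoot_charpoly).2 (Polynomial.mem_roots'.1 hx).2
  obtain ⟨q, hqm, hq⟩ := hT
  refine ⟨q, hqm, ?_⟩
  have hq' : aeval T (q.map (algebraMap ℤ ℂ)) = 0 := by
    rw [aeval_map_algebraMap]; exact hq
  have hev := spectrum.subset_polynomial_aeval T (q.map (algebraMap ℤ ℂ)) ⟨x, hsp, rfl⟩
  rw [hq'] at hev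
  have hne : Nonempty ι := by
    by_contra hι
    rw [not_nonempty_iff] at hι
    simp [spectrum.of_subsingleton] at hsp
  simpa [spectrum.zero_eq, eval_map] using hev

end CfsgLib.BlockReg
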