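import Cfsg.Agent.Lib.BlockReg.Integral
import Cfsg.Agent.Lib.Char.Induced

/-!
# Regular sums over a subgroup and induced blocks
-/

set_option autoImplicit false

namespace CfsgLib.BlockReg

open Cfsg
open scoped ComplexConjugate

universe u

variable {G : Type u} [Group G] [Finite G] {p : ℕ} {M : Ideal Cfsg.AlgInt}

omit [Finite G] in
theorem orderOf_eq_of_isConj {g h : G} (hgh : IsConj g h) : orderOf g = orderOf h := by
  obtain ⟨c, hc⟩ := isConj_iff.1 hgh
  rw [← hc]; exact (MulEquiv.orderOf_eq (MulAut.conj c) g).symm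

omit [Finite G] in
theorem isConj_inv_inv {g h : G} (hgh : IsConj g h) : IsConj g⁻¹ h⁻¹ := by
  obtain ⟨c, hc⟩ := isConj_iff.1 hgh
  exact isConj_iff.2 ⟨c, by rw [← hc]; group⟩

/-- Summing a class function against a function on a subgroup, by classes of the whole group. -/
theorem sum_subgroup_eq_sum_classes [Fintype (ConjClasses G)] (H : Subgroup G) [Fintype H]
    (F : G → ℂ) (hF : ∀ g h, IsConj g h → F g = F h) (ξ : H → ℂ) :
    (∑ h : H, F h * ξ h) / ξ 1 =
      ∑ C : ConjClasses G, F C.out * inducedCentralChar H ξ C.out := by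
  classical
  rw [Finset.sum_div, ← Finset.sum_fiberwise Finset.univ (fun h : H => ConjClasses.mk (h : G))]
  refine Finset.sum_congr rfl fun C _ => ?_
  rw [inducedCentralChar, finsum_mem_eq_toFinset_sum, Finset.mul_sum]
  have hiff : ∀ h : H, ConjClasses.mk (h : G) = C ↔ IsConj C.out (h : G) := by
    intro h
    conv_lhs => rw [show C = ConjClasses.mk C.out from (Quotient.out_eq C).symm]
    rw [ConjClasses.mk_eq_mk_iff_isConj]
    exact isConj_comm
  refine Finset.sum_congr ?_ fun h hh => ?_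
  · ext h
    rw [Finset.mem_filter, Set.mem_toFinset, Set.mem_setOf_eq, hiff]
    simp
  · rw [Set.mem_toFinset, Set.mem_setOf_eq] at hh
    rw [hF _ _ hh, mul_div_assoc]

/-- Weighted sums agree mod `M` along an induced block. -/
theorem sum_subgroup_congr [Fintype G] (hM : IsPModular p M) (H : Subgroup G) [Fintype H]
    {b : Set (IrrCharacter H)} {B₀ : Set (IrrCharacter G)} (hind : IsInducedBlock M H b B₀)
    {ψ : IrrCharacter H} (hψ : ψ ∈ b) {χ₀ : IrrCharacter G} (hχ₀ : χ₀ ∈ B₀) (F : G → ℂ)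
    (hF : ∀ g h, IsConj g h → F g = F h) (hFR : ∀ g, MemLocalRing M (F g)) :
    MemLocalIdeal M ((∑ h : H, F h * (ψ : H → ℂ) h) / (ψ : H → ℂ) 1 -
      (∑ g, F g * (χ₀ : G → ℂ) g) / (χ₀ : G → ℂ) 1) := by
  classical
  haveI := Fintype.ofFinite (ConjClasses G)
  rw [sum_subgroup_eq_sum_classes H F hF, sum_mul_char_div χ₀ F hF, ← Finset.sum_sub_distrib]
  refine memIdeal_sum hM _ fun C _ => ?_
  rw [← mul_sub]
  exact memIdeal_mul_left hM (hFR _) (hind.2.2 ψ hψ χ₀ hχ₀ _)

/-- The class function `g ↦ χ g⁻¹` on regular elements, zero elsewhere. -/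
noncomputable def regInv (p : ℕ) (χ : G → ℂ) : G → ℂ :=
  fun g => if p ∣ orderOf g then 0 else χ g⁻¹

theorem regInv_congr (p : ℕ) (χ : IrrCharacter G) (g h : G) (hgh : IsConj g h) :
    regInv p (χ : G → ℂ) g = regInv p (χ : G → ℂ) h := by
  simp only [regInv, orderOf_eq_of_isConj hgh, char_conj_invariant χ _ _ (isConj_inv_inv hgh)]

theorem regInv_memRing (hM : IsPModular p M) (χ : IrrCharacter G) (g : G) :
    MemLocalRing M (regInv p (χ : G → ℂ) g) := by
  unfold regInv
  split_ifs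
  exacts [memRing_zero hM, memRing_char hM χ _]

theorem classInner_tilde_eq_regInv [Fintype G] (p : ℕ) (χ : G → ℂ) (ψ : IrrCharacter G) :
    classInner (tilde p χ) (ψ : G → ℂ) / (ψ : G → ℂ) 1 =
      pUnit p G * ((∑ g, regInv p χ g * (ψ : G → ℂ) g) / (ψ : G → ℂ) 1) := by
  rw [classInner, pUnit, mul_div_assoc, ← Equiv.sum_comp (Equiv.inv G) (fun g => regInv p χ g * _)]
  rw [Finset.sum_div, Finset.sum_div, Finset.mul_sum, Finset.mul_sum]
  refine Finset.sum_congr rfl fun g _ => ?_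
  simp only [tilde, regInv, Equiv.inv_apply, orderOf_inv, inv_inv, char_inv]
  split_ifs
  · simp
  · ring

/-- For `ψ` in a block inducing the block of `χ₀`, the regular sum of `χ` over the subgroup against
`ψ` is a local integer, zero mod `M` exactly when `χ` is not of height zero in that block. -/
theorem regular_sum_criterion [Fact p.Prime] [Fintype G] (hM : IsPModular p M) (H : Subgroup G)
    [Fintype H] {b : Set (IrrCharacter H)} {B₀ : Set (IrrCharacter G)}
    (hind : IsInducedBlock M H b B₀) {ψ : IrrCharacter H} (hψ : ψ ∈ b) (χ : IrrCharacter G) :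
    (χ ∉ B₀ → MemLocalIdeal M ((∑ h : H, regInv p (χ : G → ℂ) h * (ψ : H → ℂ) h) / (ψ : H → ℂ) 1)) ∧
    (χ ∈ B₀ → (charDegree (χ : G → ℂ)).factorization p = minExp p B₀ →
      ¬ MemLocalIdeal M ((∑ h : H, regInv p (χ : G → ℂ) h * (ψ : H → ℂ) h) / (ψ : H → ℂ) 1)) := by
  obtain ⟨χ₀, hχ₀⟩ := block_nonempty hM hind.2.1
  have hcong := sum_subgroup_congr hM H hind hψ hχ₀ (regInv p (χ : G → ℂ)) (regInv_congr p χ)
    (regInv_memRing hM χ)
  rw [memIdeal_iff_of_sub hM hcong]
  obtain ⟨hu, hu'⟩ := pUnit_spec (G := G) hM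
  have heq : (∑ g, regInv p (χ : G → ℂ) g * (χ₀ : G → ℂ) g) / (χ₀ : G → ℂ) 1 =
      (pUnit p G)⁻¹ * rInner p (χ : G → ℂ) (χ₀ : G → ℂ) := by
    rw [rInner, classInner_tilde_eq_regInv, ← mul_assoc,
      inv_mul_cancel₀ (ne_zero_of_not_memIdeal hM hu'), one_mul]
  rw [heq]
  constructor
  · intro hχ
    have hnot : χ₀ ∉ blockOf M (χ : G → ℂ) := fun h =>
      hχ (mem_of_sameBlock hM hind.2.1 hχ₀ (sameBlock_symm h))
    rw [rInner, classInner_tilde_eq_zero hM (isPBlock_blockOf χ) (sameBlock_refl hM _) hnot,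
      zero_div, mul_zero]
    exact memIdeal_zero hM
  · intro hχ hm
    exact not_memIdeal_mul hM (memRing_inv hM hu hu') (rInner_memRing hM χ χ₀)
      (not_memIdeal_inv hM hu hu') (rInner_not_memIdeal hM hind.2.1 hχ hχ₀ hm)

/-- A character is congruent mod `M` at `x * h` and `h`, `x` a `p`-element commuting with a
regular `h`. -/
theorem char_mul_sub_memIdeal [Fact p.Prime] (hM : IsPModular p M) (χ : IrrCharacter G) {x h : G}
    (hcomm : Commute x h) {j : ℕ} (hx : x ^ p ^ j = 1) (hh : ¬ p ∣ orderOf h) :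
    MemLocalIdeal M ((χ : G → ℂ) (x * h) - (χ : G → ℂ) h) := by
  have hpr : p.Prime := Fact.out
  set o := orderOf h with ho
  have ho0 : 0 < o := orderOf_pos h
  set k := (p ^ (j + 1)) ^ o.totient with hk
  have hk0 : 0 < k := pow_pos (pow_pos hpr.pos _) _
  have hco : Nat.Coprime (p ^ (j + 1)) o :=
    Nat.Coprime.pow_left _ (hpr.coprime_iff_not_dvd.2 hh)
  have hmk : o ∣ k - 1 := (Nat.modEq_iff_dvd' hk0).1 (Nat.ModEq.pow_totient hco).symm
  have hjk : p ^ j ∣ k :=
    (pow_dvd_pow p (Nat.le_succ j)).trans (dvd_pow_self _ (Nat.totient_pos.2 ho0).ne')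
  have h1 : (x * h) ^ k = h := by
    obtain ⟨c, hc⟩ := hjk
    obtain ⟨d, hd⟩ := hmk
    rw [hcomm.mul_pow]
    conv_lhs => arg 1; rw [hc, pow_mul, hx, one_pow]
    rw [one_mul, show k = o * d + 1 by omega, pow_succ, pow_mul, ho, pow_orderOf_eq_one, one_pow,
      one_mul]
  have h2 : (x * h) ^ ((k - 1) * p ^ j) = 1 := by
    obtain ⟨d, hd⟩ := hmk
    rw [hcomm.mul_pow, mul_comm (k - 1), pow_mul, hx, one_pow, one_mul, hd, mul_comm, mul_assoc,
      ho, pow_mul, pow_orderOf_eq_one, one_pow]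
  have hmem := char_sub_mem_radical hM χ (x * h) hk0 h2
  have hle : (Ideal.span ({(p : localSubring hM)} : Set (localSubring hM))).radical ≤
      localIdeal hM := by
    refine (isPrime_localIdeal hM).radical_le_iff.2 ?_
    rw [Ideal.span_singleton_le_iff_mem]
    show MemLocalIdeal M _
    rw [show (((p : localSubring hM)) : ℂ) = (p : ℂ) from map_natCast (localSubring hM).subtype p]
    exact (memIdeal_natCast_iff hM p).2 dvd_rfl
  have := hle hmem
  rw [h1] at this
  exact this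

end CfsgLib.BlockReg
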